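import Groth.Agent.Lib.RGamma27.Restrict
import Groth.Agent.Lib.DBaseChange.Descent
import Groth.Agent.Lib.DBaseChange.TorDescent
import Mathlib.RingTheory.Flat.Basic
import Mathlib.Algebra.Category.ModuleCat.Descent

/-!
# The torsion functor and flat base change
-/

set_option autoImplicit false
universe u w

open CategoryTheory CategoryTheory.Limits TensorProduct

attribute [local instance] HasDerivedCategory.standard

noncomputable section

namespace Groth.Agent.RGamma27

section Module

variable {R : Type u} [CommRing R] (S M : Type u) [AddCommGroup S] [Module R S] [AddCommGroup M] [Module R M]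

/-- Elements torsion for the list, as a submodule. -/
def torsOf (fs : List R) : Submodule R M where
  carrier := {m | Tors fs m}
  add_mem' {x y} hx hy := by
    have h : Tors fs (x - (0 - y)) := hx.sub (tors_zero.sub hy)
    simpa using h
  zero_mem' := tors_zero
  smul_mem' a _ hx := hx.smul a

variable [Module.Flat R S]

theorem exists_lTensor_of_tors : ∀ (fs : List R) (x : S ⊗[R] M), Tors fs x →
    ∃ z : S ⊗[R] torsOf M fs, (torsOf M fs).subtype.lTensor S z = x
  | [], x, _ => by
    let f : M →ₗ[R] torsOf M [] := LinearMap.codRestrict _ LinearMap.id fun m g hg => (List.not_mem_nil hg).elim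
    exact ⟨f.lTensor S x, (LinearMap.lTensor_comp_apply S (torsOf M []).subtype f x).symm.trans
      (by simp [f, LinearMap.subtype_comp_codRestrict])⟩
  | g :: fs, x, hx => by
    obtain ⟨z, rfl⟩ := exists_lTensor_of_tors fs x fun a ha => hx a (List.mem_cons_of_mem g ha)
    obtain ⟨k, hk⟩ := hx g List.mem_cons_self
    rw [← map_smul] at hk
    have hk' : g ^ k • z = 0 :=
      Module.Flat.lTensor_preserves_injective_linearMap (torsOf M fs).subtype (Submodule.injective_subtype _)
        (hk.trans (map_zero _).symm)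
    let f : torsOf M fs →ₗ[R] torsOf M fs := g ^ k • LinearMap.id
    have hz : f.lTensor S z = 0 := by
      rw [LinearMap.lTensor_smul, LinearMap.smul_apply, LinearMap.lTensor_id, LinearMap.id_apply, hk']
    obtain ⟨w, hw⟩ := (Module.Flat.lTensor_exact S (LinearMap.exact_subtype_ker_map f) z).1 hz
    let j : LinearMap.ker f →ₗ[R] torsOf M (g :: fs) :=
      LinearMap.codRestrict _ ((torsOf M fs).subtype ∘ₗ (LinearMap.ker f).subtype) fun m a ha => by
        rcases List.mem_cons.1 ha with rfl | ha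
        · exact ⟨k, congrArg Subtype.val (show f m.1 = 0 from m.2)⟩
        · exact m.1.2 a ha
    refine ⟨j.lTensor S w, ?_⟩
    rw [← hw, ← LinearMap.lTensor_comp_apply, ← LinearMap.lTensor_comp_apply]
    rfl

theorem flasque_tensor (hM : Flasque (R := R) M) : Flasque (R := R) (S ⊗[R] M) := fun fs g n x hx => by
  obtain ⟨z, rfl⟩ := exists_lTensor_of_tors S M fs x hx
  induction z with
  | zero => exact ⟨0, 0, tors_zero, by simp⟩
  | tmul s m =>
    obtain ⟨p, m', hm', e⟩ := hM fs g n m.1 m.2
    refine ⟨p, s ⊗ₜ m', hm'.map (TensorProduct.mk R S M s), ?_⟩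
    rw [LinearMap.lTensor_tmul, ← TensorProduct.tmul_smul, ← TensorProduct.tmul_sub, ← TensorProduct.tmul_smul]
    exact (congrArg (s ⊗ₜ[R] ·) e).trans (TensorProduct.tmul_zero _ _)
  | add z₁ z₂ h₁ h₂ =>
    have ht : ∀ z : S ⊗[R] torsOf M fs, Tors fs ((torsOf M fs).subtype.lTensor S z) := fun z => by
      induction z with
      | zero => rw [map_zero]; exact tors_zero
      | tmul s m => exact Tors.map (N := S ⊗[R] M) m.2 (TensorProduct.mk R S M s)
      | add a b ha hb =>
        rw [map_add]
        have h : Tors fs ((torsOf M fs).subtype.lTensor S a - (0 - (torsOf M fs).subtype.lTensor S b)) :=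
          ha.sub (tors_zero.sub hb)
        simpa using h
    obtain ⟨p, a, ha, e⟩ := h₁ (ht z₁)
    obtain ⟨q, b, hb, e'⟩ := h₂ (ht z₂)
    refine ⟨p + q, a + b, ?_, ?_⟩
    · have h : Tors fs (a - (0 - b)) := ha.sub (tors_zero.sub hb)
      simpa using h
    · rw [map_add, smul_add (g ^ n), add_sub_add_comm, smul_add, pow_add, mul_smul, mul_smul,
        smul_comm (g ^ p) (g ^ q) ((torsOf M fs).subtype.lTensor S z₁ - g ^ n • a), e, e', smul_zero, smul_zero,
        add_zero]

theorem exists_lTensor_of_mem_torsionSub [IsNoetherianRing R] (I : Ideal R) (x : S ⊗[R] M)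
    (hx : x ∈ DRing.torsionSub I (S ⊗[R] M)) :
    ∃ z : S ⊗[R] DRing.torsionSub I M, (DRing.torsionSub I M).subtype.lTensor S z = x := by
  obtain ⟨T, hT⟩ := IsNoetherian.noetherian I
  have hI : Ideal.span {y : R | y ∈ T.toList} = I := by rw [← hT]; congr 1; ext; simp
  subst hI
  obtain ⟨z, hz⟩ := exists_lTensor_of_tors S M T.toList x ((tors_iff _).2 hx)
  let j : torsOf M T.toList →ₗ[R] DRing.torsionSub (Ideal.span {y : R | y ∈ T.toList}) M :=
    LinearMap.codRestrict _ (torsOf M T.toList).subtype fun m => (tors_iff _).1 m.2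
  refine ⟨j.lTensor S z, ?_⟩
  rw [← hz, ← LinearMap.lTensor_comp_apply]
  rfl

end Module

variable {A B : Type u} [CommRing A] [CommRing B]

theorem flat_restrict (φ : A →+* B) (hφ : φ.Flat) :
    Module.Flat A ((ModuleCat.restrictScalars φ).obj (ModuleCat.of B B)) := by
  algebraize [φ]
  exact inferInstanceAs (Module.Flat A (ModuleCat.of A B))

theorem flasque_ext (φ : A →+* B) (hφ : φ.Flat) {M : ModuleCat.{u} A} (h : Flasque (R := A) M) :
    Flasque (R := A) ((ModuleCat.restrictScalars φ).obj ((ModuleCat.extendScalars.{u, u, u} φ).obj M)) := by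
  haveI := flat_restrict φ hφ
  exact flasque_tensor ((ModuleCat.restrictScalars φ).obj (ModuleCat.of B B)) M h

theorem mem_torsion_ext (φ : A →+* B) (I : Ideal A) (M : ModuleCat.{u} A)
    (z : (ModuleCat.extendScalars.{u, u, u} φ).obj ((DRing.gammaI I).obj M)) :
    (ModuleCat.extendScalars.{u, u, u} φ).map ((DRing.gammaIι I).app M) z ∈
      DRing.torsionSub (I.map φ) ((ModuleCat.extendScalars.{u, u, u} φ).obj M) := by
  refine (mem_torsionSub_restrict φ I _).1 ?_
  induction z using TensorProduct.induction_on with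
  | zero => exact (map_zero ((ModuleCat.extendScalars.{u, u, u} φ).map ((DRing.gammaIι I).app M)).hom).symm ▸ Submodule.zero_mem _
  | tmul s m =>
    exact DRing.map_mem_torsionSub I
      (TensorProduct.mk A ((ModuleCat.restrictScalars φ).obj (ModuleCat.of B B)) M s) (m : DRing.torsionSub I M).2
  | add a b ha hb =>
    exact (map_add ((ModuleCat.extendScalars.{u, u, u} φ).map ((DRing.gammaIι I).app M)).hom a b).symm ▸
      Submodule.add_mem _ ha hb

/-- Flat base change commutes with torsion. -/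
def torsionExtHom (φ : A →+* B) (I : Ideal A) (M : ModuleCat.{u} A) :
    (ModuleCat.extendScalars.{u, u, u} φ).obj ((DRing.gammaI I).obj M) ⟶
      (DRing.gammaI (I.map φ)).obj ((ModuleCat.extendScalars.{u, u, u} φ).obj M) :=
  letI X := (ModuleCat.extendScalars.{u, u, u} φ).obj ((DRing.gammaI I).obj M)
  ModuleCat.ofHom (X := X) (Y := DRing.torsionSub (I.map φ) ((ModuleCat.extendScalars.{u, u, u} φ).obj M))
    (LinearMap.codRestrict _ ((ModuleCat.extendScalars.{u, u, u} φ).map ((DRing.gammaIι I).app M)).hom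
    (mem_torsion_ext φ I M))

theorem torsionExtHom_bijective [IsNoetherianRing A] (φ : A →+* B) (hφ : φ.Flat) (I : Ideal A) (M : ModuleCat.{u} A) :
    Function.Bijective (torsionExtHom φ I M) := by
  haveI := flat_restrict φ hφ
  let S := (ModuleCat.restrictScalars φ).obj (ModuleCat.of B B)
  refine ⟨fun a b h => ?_, fun y => ?_⟩
  · exact Module.Flat.lTensor_preserves_injective_linearMap (M := S) (DRing.torsionSub I M).subtype
      (Submodule.injective_subtype _) (congrArg Subtype.val h)
  · obtain ⟨z, hz⟩ := exists_lTensor_of_mem_torsionSub S M I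
      (y : DRing.torsionSub (I.map φ) ((ModuleCat.extendScalars.{u, u, u} φ).obj M)).1
      ((mem_torsionSub_restrict φ I _).2 (y : DRing.torsionSub (I.map φ) ((ModuleCat.extendScalars.{u, u, u} φ).obj M)).2)
    exact ⟨z, Subtype.ext hz⟩

theorem exists_gam_ext_iso [IsNoetherianRing A] (φ : A →+* B) (hφ : φ.Flat) (I : Ideal A) (J : DRing.Cx A) :
    Nonempty ((DBaseChange.extCx φ).obj (gam I J) ≅ gam (I.map φ) ((DBaseChange.extCx φ).obj J)) := by
  have hi : ∀ j, IsIso (torsionExtHom φ I (J.X j)) := fun j =>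
    (ConcreteCategory.isIso_iff_bijective _).2 (torsionExtHom_bijective φ hφ I (J.X j))
  refine ⟨HomologicalComplex.Hom.isoOfComponents (fun j => @asIso _ _ _ _ (torsionExtHom φ I (J.X j)) (hi j)) fun j k _ => ?_⟩
  apply ModuleCat.hom_ext
  apply LinearMap.ext
  intro x
  refine Subtype.ext ?_
  have e := (ModuleCat.extendScalars.{u, u, u} φ).map_comp ((DRing.gammaI I).map (J.d j k)) ((DRing.gammaIι I).app (J.X k))
  rw [(DRing.gammaIι I).naturality (J.d j k), Functor.map_comp] at e
  exact ConcreteCategory.congr_hom e x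

variable [IsNoetherianRing A] [IsNoetherianRing B]

theorem isIso_Q_gam_map_ext (φ : A →+* B) (hφ : φ.Flat) (I : Ideal A) {P : DRing.Cx A} {W : DRing.Cx B}
    (w : (DBaseChange.extCx φ).obj P ⟶ W) (hP : ∀ i, Flasque (R := A) (P.X i))
    (hW : ∀ i, Flasque (R := B) (W.X i)) (hw : IsIso (DerivedCategory.Q.map w)) :
    IsIso (DerivedCategory.Q.map (((DRing.gammaI (I.map φ)).mapHomologicalComplex (ComplexShape.up ℤ)).map w)) := by
  let F := ModuleCat.restrictScalars.{u} φ
  let F' := F.mapHomologicalComplex (ComplexShape.up ℤ)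
  have hq : _root_.QuasiIso w := (DerivedCategory.isIso_Q_map_iff_quasiIso _ w).1 hw
  have h1 : IsIso (DerivedCategory.Q.map (((DRing.gammaI I).mapHomologicalComplex (ComplexShape.up ℤ)).map (F'.map w))) :=
    isIso_Q_gam_map I (F'.map w) (fun i => flasque_ext φ hφ (hP i)) (fun i => flasque_restrict φ (hW i))
      ((DerivedCategory.isIso_Q_map_iff_quasiIso _ _).2 inferInstance)
  haveI := (DerivedCategory.isIso_Q_map_iff_quasiIso _ _).1 h1
  let c : ∀ L : DRing.Cx B, gam I (F'.obj L) ≅ F'.obj (gam (I.map φ) L) := fun L =>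
    HomologicalComplex.Hom.isoOfComponents (fun j => torsionRestrictIso φ I (L.X j)) fun j k _ =>
      ModuleCat.hom_ext (LinearMap.ext fun x => rfl)
  have hc : F'.map (((DRing.gammaI (I.map φ)).mapHomologicalComplex (ComplexShape.up ℤ)).map w) =
      (c _).inv ≫ ((DRing.gammaI I).mapHomologicalComplex (ComplexShape.up ℤ)).map (F'.map w) ≫ (c _).hom := by
    ext j : 1
    exact ModuleCat.hom_ext (LinearMap.ext fun x => rfl)
  have h2 : _root_.QuasiIso (F'.map (((DRing.gammaI (I.map φ)).mapHomologicalComplex (ComplexShape.up ℤ)).map w)) := by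
    rw [hc]; infer_instance
  exact (DerivedCategory.isIso_Q_map_iff_quasiIso _ _).2
    ((HomologicalComplex.quasiIso_map_iff_of_preservesHomology _ F).1 h2)

theorem isIso_valueMap_of_flat (φ : A →+* B) (hφ : φ.Flat) [DRing.HasLBaseChange φ] (P : DRing.Cx A) :
    IsIso ((DBaseChange.valueMap φ).app P) := by
  let Φ : KFlat.Cover (ModuleCat.{u} A) := KFlat.Module.cover
  let π := (KFlat.resNatTrans Φ).app P
  haveI h0 := DBaseChange.isIso_valueMap φ ((KFlat.resFunctor Φ).obj P)
    ⟨KFlat.isKFlat_resObj Φ P KFlat.Module.isFlat_cover, KFlat.isKFlat_flip_resObj Φ P KFlat.Module.isFlat_cover,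
      KFlat.isFlat_resObj_X Φ P KFlat.Module.isFlat_cover⟩
  haveI hπ : _root_.QuasiIso π := KFlat.quasiIso_resπ Φ P
  haveI : IsIso (DerivedCategory.Q.map π) := (DerivedCategory.isIso_Q_map_iff_quasiIso _ _).2 hπ
  haveI : IsIso (DerivedCategory.Q.map ((DBaseChange.extCx φ).map π)) :=
    (DerivedCategory.isIso_Q_map_iff_quasiIso _ _).2 (DBaseChange.quasiIso_ext_of_flat hφ π)
  have hn : (DRing.LBaseChange φ).map (DerivedCategory.Q.map π) ≫ (DBaseChange.valueMap φ).app P =
      (DBaseChange.valueMap φ).app _ ≫ DerivedCategory.Q.map ((DBaseChange.extCx φ).map π) :=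
    (DBaseChange.valueMap φ).naturality π
  haveI : IsIso ((DRing.LBaseChange φ).map (DerivedCategory.Q.map π) ≫ (DBaseChange.valueMap φ).app P) := by
    rw [hn]; infer_instance
  exact IsIso.of_isIso_comp_left ((DRing.LBaseChange φ).map (DerivedCategory.Q.map π)) _

theorem exists_HD_RgammaI_ext (φ : A →+* B) (hφ : φ.Flat) [DRing.HasLBaseChange φ] (I : Ideal A)
    [DRing.HasRgammaI I] [DRing.HasRgammaI (I.map φ)] (K : Dual.D A) (i : ℤ) :
    Nonempty (Dual.HD B ((DRing.RgammaI (I.map φ)).obj ((DRing.LBaseChange φ).obj K)) i ≃ₗ[B]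
      (ModuleCat.extendScalars.{u, u, u} φ).obj
        ((DerivedCategory.homologyFunctor (ModuleCat.{u} A) i).obj ((DRing.RgammaI I).obj K))) := by
  obtain ⟨J, hJ, hinj, ⟨e⟩⟩ := exists_res K
  obtain ⟨W, w, hW, hw, -, hWinj⟩ := KInjLib.exists_resolution ((DBaseChange.extCx φ).obj J)
  haveI := isIso_Q_gam_map_ext φ hφ I w (fun j => flasque_of_injective (hinj j))
    (fun j => flasque_of_injective ((Module.injective_iff_injective_object B _).2 (hWinj j))) inferInstance
  haveI := hW
  haveI := isIso_valueMap_of_flat φ hφ J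
  obtain ⟨c⟩ := exists_gam_ext_iso φ hφ I J
  let e₁ : (DRing.LBaseChange φ).obj K ≅ DerivedCategory.Q.obj W :=
    (DRing.LBaseChange φ).mapIso e ≪≫ asIso ((DBaseChange.valueMap φ).app J) ≪≫ asIso (DerivedCategory.Q.map w)
  let e₂ : (DRing.RgammaI (I.map φ)).obj ((DRing.LBaseChange φ).obj K) ≅
      DerivedCategory.Q.obj ((DBaseChange.extCx φ).obj (gam I J)) :=
    (DRing.RgammaI (I.map φ)).mapIso e₁ ≪≫ (unitIso (I.map φ) W).symm ≪≫
      (asIso (DerivedCategory.Q.map (((DRing.gammaI (I.map φ)).mapHomologicalComplex (ComplexShape.up ℤ)).map w))).symm ≪≫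
      DerivedCategory.Q.mapIso c.symm
  exact ⟨((DerivedCategory.homologyFunctor (ModuleCat.{u} B) i).mapIso e₂ ≪≫
      DBaseChange.hdEquiv _ i ≪≫ DBaseChange.homologyExtIso φ hφ (gam I J) i ≪≫
      (ModuleCat.extendScalars.{u, u, u} φ).mapIso ((DBaseChange.hdEquiv (gam I J) i).symm ≪≫
        (DerivedCategory.homologyFunctor (ModuleCat.{u} A) i).mapIso
          (unitIso I J ≪≫ (DRing.RgammaI I).mapIso e.symm))).toLinearEquiv⟩

theorem exists_ext_equiv (φ : A →+* B) {N : ModuleCat.{u} A} {M : ModuleCat.{u + 1} A} (l : N ≃ₗ[A] M) :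
    Nonempty ((ModuleCat.extendScalars.{u, u, u} φ).obj N ≃ₗ[B] (ModuleCat.extendScalars φ).obj M) := by
  let c := TensorProduct.congr (LinearEquiv.refl A ((ModuleCat.restrictScalars φ).obj (ModuleCat.of B B))) l
  refine ⟨{ c.toAddEquiv with map_smul' := fun b x => ?_ }⟩
  let X := (ModuleCat.extendScalars.{u, u, u} φ).obj N
  let Y := (ModuleCat.extendScalars φ).obj M
  change c (b • x : X) = (b • (show Y from c x) : Y)
  induction x using TensorProduct.induction_on with
  | zero =>
    exact ((congrArg c (smul_zero (A := X) b)).trans (map_zero c)).trans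
      ((congrArg (fun t => (b • t : Y)) (map_zero c)).trans (smul_zero (A := Y) b)).symm
  | tmul s m => rfl
  | add x y hx hy =>
    exact (((congrArg c (smul_add (A := X) b x y)).trans (map_add c _ _)).trans
      (congrArg₂ (· + ·) hx hy)).trans
      ((congrArg (fun t => (b • t : Y)) (map_add c x y)).trans (smul_add (A := Y) b _ _)).symm

theorem HDI_ext [Algebra A B] [Module.Flat A B] [DRing.HasLBaseChange (algebraMap A B)] (I : Ideal A)
    (K : Dual.D A) (i : ℤ) :
    Nonempty (Dual2.HDI B (I.map (algebraMap A B)) ((DRing.LBaseChange (algebraMap A B)).obj K) i ≅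
      (ModuleCat.extendScalars (algebraMap A B)).obj (Dual2.HDI A I K i)) := by
  haveI := hasRgammaI I
  haveI := hasRgammaI (I.map (algebraMap A B))
  obtain ⟨t⟩ := exists_HD_RgammaI_ext (algebraMap A B) (RingHom.flat_algebraMap_iff.2 inferInstance) I K i
  obtain ⟨lA⟩ := HD_RgammaI_equiv I K i
  obtain ⟨lB⟩ := HD_RgammaI_equiv (I.map (algebraMap A B)) ((DRing.LBaseChange (algebraMap A B)).obj K) i
  obtain ⟨t'⟩ := exists_ext_equiv (algebraMap A B) lA
  exact ⟨(lB.symm ≪≫ₗ t ≪≫ₗ t').toModuleIso⟩

end Groth.Agent.RGamma27
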