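import Groth.Agent.Lib.RGamma27.Value
import Groth.Prelude.Def_DualLC
import Mathlib.Algebra.Homology.HomotopyCategory.HomComplexSingle
import Mathlib.Algebra.Homology.DerivedCategory.Linear
import Mathlib.CategoryTheory.Limits.ConcreteCategory.WithAlgebraicStructures
import Mathlib.Algebra.Category.ModuleCat.FilteredColimits

/-!
# Cohomology of the derived torsion functor as a colimit of morphism groups
-/

set_option autoImplicit false
universe u

open CategoryTheory CategoryTheory.Limits Opposite CochainComplex.HomComplex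

attribute [local instance] HasDerivedCategory.standard

noncomputable section

namespace Groth.Agent.RGamma27

variable {A : Type u} [CommRing A]

/-- A cocycle `M → J^q` as a morphism `M → J[q]` in the derived category. -/
def el {J : DRing.Cx A} {M : ModuleCat.{u} A} {q : ℤ} (f : M ⟶ J.X q) (hf : f ≫ J.d q (q + 1) = 0) :
    DerivedCategory.Q.obj ((CochainComplex.singleFunctor (ModuleCat.{u} A) 0).obj M) ⟶ (DerivedCategory.Q.obj J)⟦q⟧ :=
  DerivedCategory.Q.map (Cocycle.equivHomShift.symm (Cocycle.fromSingleMk f (zero_add q) (q + 1) rfl hf)) ≫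
    (DerivedCategory.Q.commShiftIso q).hom.app J

variable {J : DRing.Cx A} {M : ModuleCat.{u} A} {q : ℤ}

theorem el_surjective [J.IsKInjective]
    (φ : DerivedCategory.Q.obj ((CochainComplex.singleFunctor (ModuleCat.{u} A) 0).obj M) ⟶ (DerivedCategory.Q.obj J)⟦q⟧) :
    ∃ (f : M ⟶ J.X q) (hf : f ≫ J.d q (q + 1) = 0), el f hf = φ := by
  obtain ⟨g, hg⟩ := KInjLib.exists_map_eq (K := (CochainComplex.singleFunctor (ModuleCat.{u} A) 0).obj M)
    (I := J⟦q⟧) (φ ≫ (DerivedCategory.Q.commShiftIso q).inv.app J)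
  obtain ⟨f, hf, e⟩ := Cocycle.fromSingleMk_surjective (Cocycle.equivHomShift g) q (zero_add q) (q + 1) rfl
  refine ⟨f, hf, ?_⟩
  rw [el, e, AddEquiv.symm_apply_apply, hg]
  erw [Category.assoc, Iso.inv_hom_id_app]
  exact Category.comp_id _

theorem el_eq_zero_iff [J.IsKInjective] (f : M ⟶ J.X q) (hf : f ≫ J.d q (q + 1) = 0) :
    el f hf = 0 ↔ ∃ g : M ⟶ J.X (q - 1), g ≫ J.d (q - 1) q = f := by
  rw [← Cocycle.fromSingleMk_mem_coboundaries_iff f (zero_add q) (q + 1) rfl hf (q - 1) (by omega),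
    ← CohomologyClass.toHom_mk_eq_zero_iff, CohomologyClass.toHom_mk, el]
  constructor
  · intro h
    have h' : DerivedCategory.Q.map (Cocycle.equivHomShift.symm (Cocycle.fromSingleMk f (zero_add q) (q + 1) rfl hf)) =
        DerivedCategory.Q.map 0 := by
      rw [Functor.map_zero, ← cancel_mono ((DerivedCategory.Q.commShiftIso q).hom.app J), zero_comp]
      exact h
    obtain ⟨H⟩ := (KInjLib.map_eq_iff _ _).1 h'
    rw [HomotopyCategory.eq_of_homotopy _ _ H, Functor.map_zero]
  · intro h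
    rw [show (0 : _ ⟶ _) = (HomotopyCategory.quotient _ _).map
      (0 : (CochainComplex.singleFunctor (ModuleCat.{u} A) 0).obj M ⟶ J⟦q⟧) from (Functor.map_zero _ _ _).symm] at h
    rw [(KInjLib.map_eq_iff _ _).2 ⟨HomotopyCategory.homotopyOfEq _ _ h⟩, Functor.map_zero, zero_comp]

theorem el_congr {f f' : M ⟶ J.X q} (e : f = f') (hf : f ≫ J.d q (q + 1) = 0) :
    el f hf = el f' (e ▸ hf) := by
  subst e; rfl

theorem el_add (f g : M ⟶ J.X q) (hf : f ≫ J.d q (q + 1) = 0) (hg : g ≫ J.d q (q + 1) = 0) :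
    el (f + g) (by simp [hf, hg]) = el f hf + el g hg := by
  rw [el, el, el, Cocycle.fromSingleMk_add f g (zero_add q) (q + 1) rfl hf hg, map_add, Functor.map_add,
    Preadditive.add_comp]

theorem el_precomp {M' : ModuleCat.{u} A} (g : M' ⟶ M) (f : M ⟶ J.X q) (hf : f ≫ J.d q (q + 1) = 0) :
    el (g ≫ f) (by simp [hf]) = DerivedCategory.Q.map ((CochainComplex.singleFunctor (ModuleCat.{u} A) 0).map g) ≫ el f hf := by
  rw [el, el, Cocycle.fromSingleMk_precomp g f (zero_add q) (q + 1) rfl hf, Cocycle.equivHomShift_symm_precomp,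
    Functor.map_comp]
  exact Category.assoc _ _ _

theorem el_smul (a : A) (f : M ⟶ J.X q) (hf : f ≫ J.d q (q + 1) = 0) :
    el (a • f) (by rw [Linear.smul_comp, hf, smul_zero]) = a • el f hf := by
  rw [el_congr (show a • f = (a • 𝟙 M) ≫ f by rw [Linear.smul_comp, Category.id_comp]), el_precomp _ _ hf,
    Functor.map_smul, CategoryTheory.Functor.map_id, Functor.map_smul, CategoryTheory.Functor.map_id,
    Linear.smul_comp, Category.id_comp]

variable (I : Ideal A)

/-- Colimits over the natural numbers of large modules are computed on elements. -/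
instance preservesColimit_forget (F : (ℕᵒᵖ)ᵒᵖ ⥤ ModuleCat.{u + 1} A) :
    PreservesColimit F (forget (ModuleCat.{u + 1} A)) := by
  haveI : PreservesFilteredColimitsOfSize.{0, 0} (forget AddCommGrpCat.{u + 1}) :=
    preservesSmallestFilteredColimits_of_preservesFilteredColimits _
  exact inferInstanceAs (PreservesColimit F (forget₂ (ModuleCat.{u + 1} A) AddCommGrpCat ⋙ forget AddCommGrpCat))

/-- `A / I^n` in the diagram of local cohomology. -/
abbrev qI (n : ℕ) : ModuleCat.{u} A :=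
  (localCohomology.ringModIdeals (localCohomology.idealPowersDiagram I)).obj (op n)

/-- The diagram whose colimit is `HDI`. -/
abbrev hdF (K : Dual.D A) (i : ℤ) : (ℕᵒᵖ)ᵒᵖ ⥤ ModuleCat.{u + 1} A :=
  (localCohomology.ringModIdeals (localCohomology.idealPowersDiagram I) ⋙
      DerivedCategory.singleFunctor (ModuleCat.{u} A) 0).op ⋙ (linearYoneda A (Dual.D A)).obj (K⟦i⟧)

variable (J q) in
/-- Torsion cycles in degree `q`. -/
abbrev cyc : Submodule A (J.X q) := DRing.torsionSub I (J.X q) ⊓ LinearMap.ker (J.d q (q + 1)).hom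

/-- The element `1` of `A / I^n`. -/
def one' (n : ℕ) : qI I n := (Submodule.Quotient.mk (1 : A) : A ⧸ (I ^ n))

theorem smul_one' {n : ℕ} {a : A} (ha : a ∈ I ^ n) : a • one' I n = 0 := by
  refine Eq.trans ?_ ((Submodule.Quotient.mk_eq_zero _).2 ha)
  exact congrArg (Submodule.Quotient.mk (p := I ^ n)) (mul_one a)

/-- The map `A / I^n → J^q` sending one to `x`. -/
def evMap (n : ℕ) {N : ModuleCat.{u} A} (x : N) (hx : ∀ a ∈ I ^ n, a • x = 0) : qI I n ⟶ N :=
  ModuleCat.ofHom (Submodule.liftQ (I ^ n) (LinearMap.toSpanSingleton A N x) fun a ha => hx a ha)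

theorem evMap_one (n : ℕ) {N : ModuleCat.{u} A} (x : N) (hx : ∀ a ∈ I ^ n, a • x = 0) :
    evMap I n x hx (one' I n) = x :=
  one_smul A x

theorem evMap_ext {n : ℕ} {N : ModuleCat.{u} A} {f g : qI I n ⟶ N}
    (h : f (one' I n) = g (one' I n)) : f = g := by
  apply ModuleCat.hom_ext
  apply Submodule.linearMap_qext
  exact LinearMap.ext_ring h

theorem evMap_d (n : ℕ) (x : J.X q) (hx : ∀ a ∈ I ^ n, a • x = 0) (hd : J.d q (q + 1) x = 0) :
    evMap I n x hx ≫ J.d q (q + 1) = 0 :=
  evMap_ext I ((congrArg (J.d q (q + 1)) (evMap_one I n x hx)).trans hd)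

variable {K : Dual.D A} (e : DerivedCategory.Q.obj J ≅ K)

/-- The class at level `n`. -/
def cl (n : ℕ) (x : J.X q) (hx : ∀ a ∈ I ^ n, a • x = 0) (hd : J.d q (q + 1) x = 0) :
    (colimit (hdF I K q) : ModuleCat.{u + 1} A) :=
  colimit.ι (hdF I K q) (op (op n)) (el (evMap I n x hx) (evMap_d I n x hx hd) ≫ (shiftFunctor (Dual.D A) q).map e.hom)

theorem cl_le {n m : ℕ} (h : n ≤ m) (x : J.X q) (hx : ∀ a ∈ I ^ n, a • x = 0) (hd : J.d q (q + 1) x = 0) :
    cl I e m x (fun a ha => hx a (Ideal.pow_le_pow_right h ha)) hd = cl I e n x hx hd := by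
  unfold cl
  let φ₀ : (hdF I K q).obj (op (op n)) :=
    el (evMap I n x hx) (evMap_d I n x hx hd) ≫ (shiftFunctor (Dual.D A) q).map e.hom
  refine Eq.trans ?_ (LinearMap.congr_fun (congrArg ModuleCat.Hom.hom
    (colimit.w (hdF I K q) (show op (op n) ⟶ op (op m) from (homOfLE h).op.op))) φ₀)
  refine congrArg (colimit.ι (hdF I K q) (op (op m))) ?_
  refine Eq.trans ?_ (show (DerivedCategory.Q.map ((CochainComplex.singleFunctor (ModuleCat.{u} A) 0).map
      ((localCohomology.ringModIdeals (localCohomology.idealPowersDiagram I)).map (homOfLE h).op)) ≫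
      el (evMap I n x hx) (evMap_d I n x hx hd)) ≫ (shiftFunctor (Dual.D A) q).map e.hom = _ from Category.assoc _ _ _)
  refine congrArg (· ≫ _) ?_
  refine (el_congr ?_ _).trans (el_precomp _ _ _)
  exact evMap_ext I ((evMap_one I m x _).trans (evMap_one I n x hx).symm)

theorem cl_indep {n m : ℕ} (x : J.X q) (hx : ∀ a ∈ I ^ n, a • x = 0) (hx' : ∀ a ∈ I ^ m, a • x = 0)
    (hd : J.d q (q + 1) x = 0) : cl I e n x hx hd = cl I e m x hx' hd :=
  (cl_le I e (le_max_left n m) x hx hd).symm.trans (cl_le I e (le_max_right n m) x hx' hd)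

variable (q) in
/-- The class of a torsion cycle. -/
def toColim : cyc J q I →ₗ[A] (colimit (hdF I K q) : ModuleCat.{u + 1} A) where
  toFun x := cl I e x.2.1.choose x.1 x.2.1.choose_spec x.2.2
  map_add' x y := by
    have hx := x.2.1.choose_spec
    have hy := y.2.1.choose_spec
    set n := x.2.1.choose
    set m := y.2.1.choose
    have hx' : ∀ a ∈ I ^ max n m, a • x.1 = 0 := fun a ha => hx a (Ideal.pow_le_pow_right (le_max_left n m) ha)
    have hy' : ∀ a ∈ I ^ max n m, a • y.1 = 0 := fun a ha => hy a (Ideal.pow_le_pow_right (le_max_right n m) ha)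
    have hxy : ∀ a ∈ I ^ max n m, a • (x + y : cyc J q I).1 = 0 := fun a ha => by
      rw [Submodule.coe_add, smul_add, hx' a ha, hy' a ha, add_zero]
    rw [cl_indep I e x.1 hx hx' x.2.2, cl_indep I e y.1 hy hy' y.2.2, cl_indep I e _ (x + y).2.1.choose_spec hxy]
    unfold cl
    rw [← map_add]
    refine congrArg (colimit.ι (hdF I K q) (op (op (max n m)))) ?_
    refine Eq.trans ?_ (Preadditive.add_comp _ _ _ _ _ _)
    refine congrArg (· ≫ _) ?_
    refine (el_congr ?_ _).trans (el_add _ _ _ _)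
    refine evMap_ext I ((evMap_one I _ _ _).trans ?_)
    exact (congrArg₂ (· + ·) (evMap_one I _ x.1 hx') (evMap_one I _ y.1 hy')).symm
  map_smul' r x := by
    have hx := x.2.1.choose_spec
    set n := x.2.1.choose
    have hrx : ∀ a ∈ I ^ n, a • (r • x : cyc J q I).1 = 0 := fun a ha => by
      rw [Submodule.coe_smul, smul_comm, hx a ha, smul_zero]
    rw [cl_indep I e _ (r • x).2.1.choose_spec hrx, RingHom.id_apply]
    unfold cl
    rw [← map_smul]
    refine congrArg (colimit.ι (hdF I K q) (op (op n))) ?_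
    refine Eq.trans ?_ (Linear.smul_comp _ _ _ _ _ _)
    refine congrArg (· ≫ _) ?_
    refine (el_congr ?_ _).trans (el_smul _ _ _)
    refine evMap_ext I ((evMap_one I _ _ _).trans ?_)
    exact (congrArg (r • ·) (evMap_one I _ x.1 hx)).symm

theorem toColim_eq (x : cyc J q I) {n : ℕ} (hx : ∀ a ∈ I ^ n, a • x.1 = 0) :
    toColim q I e x = cl I e n x.1 hx x.2.2 :=
  cl_indep I e x.1 _ hx x.2.2

variable [J.IsKInjective]

theorem toColim_surjective : Function.Surjective (toColim q I e) := fun y => by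
  obtain ⟨⟨⟨n⟩⟩, φ, rfl⟩ := Concrete.colimit_exists_rep (hdF I K q) y
  obtain ⟨f, hf, hφ⟩ := el_surjective
    ((φ : (DerivedCategory.singleFunctor (ModuleCat.{u} A) 0).obj (qI I n) ⟶ K⟦q⟧) ≫ (shiftFunctor (Dual.D A) q).map e.inv)
  let x : J.X q := f (one' I n)
  have hx : ∀ a ∈ I ^ n, a • x = 0 := fun a ha => by
    rw [← map_smul]
    exact (congrArg f (smul_one' I ha)).trans (map_zero f.hom)
  have hd : J.d q (q + 1) x = 0 := congrArg (fun t : qI I n ⟶ J.X (q + 1) => t _) hf
  refine ⟨⟨x, ⟨n, hx⟩, hd⟩, (toColim_eq I e _ hx).trans ?_⟩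
  unfold cl
  refine congrArg (colimit.ι (hdF I K q) (op (op n))) ?_
  rw [el_congr (evMap_ext I (f := evMap I n x hx) (g := f) (evMap_one I n x hx)), hφ]
  refine (Category.assoc _ _ _).trans ?_
  refine (congrArg (_ ≫ ·) (((shiftFunctor (Dual.D A) q).mapIso e).inv_hom_id)).trans ?_
  exact Category.comp_id _

theorem toColim_eq_zero_iff (x : cyc J q I) :
    toColim q I e x = 0 ↔ ∃ y : J.X (q - 1), (∃ m : ℕ, ∀ a ∈ I ^ m, a • y = 0) ∧ J.d (q - 1) q y = x.1 := by
  constructor
  · intro h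
    obtain ⟨n, hx⟩ := x.2.1
    rw [toColim_eq I e x hx] at h
    obtain ⟨⟨⟨m⟩⟩, i, hi⟩ := Concrete.colimit_rep_eq_zero A (hdF I K q) (op (op n)) _ h
    have hnm : n ≤ m := i.unop.unop.le
    let g : qI I m ⟶ qI I n :=
      (localCohomology.ringModIdeals (localCohomology.idealPowersDiagram I)).map i.unop
    have h0 : el (g ≫ evMap I n x.1 hx) (by rw [Category.assoc, evMap_d I n x.1 hx x.2.2, comp_zero]) = 0 := by
      rw [el_precomp]
      rw [← cancel_mono ((shiftFunctor (Dual.D A) q).map e.hom), zero_comp, Category.assoc]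
      exact hi
    obtain ⟨t, ht⟩ := (el_eq_zero_iff _ _).1 h0
    refine ⟨t (one' I m), ⟨m, fun a ha => ?_⟩, ?_⟩
    · rw [← map_smul]
      exact (congrArg t (smul_one' I ha)).trans (map_zero t.hom)
    · refine (congrArg (fun s : qI I m ⟶ J.X q => s (one' I m)) ht).trans ?_
      exact evMap_one I n x.1 hx
  · rintro ⟨y, ⟨m, hy⟩, hd⟩
    have hx : ∀ a ∈ I ^ m, a • x.1 = 0 := fun a ha => by rw [← hd, ← map_smul, hy a ha, map_zero]
    rw [toColim_eq I e x hx]
    unfold cl
    rw [(el_eq_zero_iff _ _).2 ⟨evMap I m y hy, evMap_ext I ?_⟩]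
    · erw [zero_comp, map_zero]
    · exact ((congrArg (J.d (q - 1) q) (evMap_one I m y hy)).trans hd).trans (evMap_one I m _ hx).symm

theorem HD_RgammaI_equiv [DRing.HasRgammaI I] (X : Dual.D A) (i : ℤ) :
    Nonempty (Dual.HD A ((DRing.RgammaI I).obj X) i ≃ₗ[A] Dual2.HDI A I X i) := by
  obtain ⟨J, hJ, -, ⟨e⟩⟩ := exists_res X
  let G := gam I J
  let toCyc : G.cycles i →ₗ[A] cyc J i I :=
    ((DRing.torsionSub I (J.X i)).subtype ∘ₗ (G.iCycles i).hom).codRestrict _ fun z => by
      refine ⟨((G.iCycles i z : DRing.torsionSub I (J.X i))).2, ?_⟩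
      exact congrArg Subtype.val (congrArg (fun t : G.cycles i ⟶ G.X (i + 1) => t z) (G.iCycles_d i (i + 1)))
  have hsurj : Function.Surjective toCyc := fun x => by
    obtain ⟨z, hz⟩ := DMod.exists_cycle (K := G) (j := i) (k := i + 1) (by simp)
      (⟨x.1, x.2.1⟩ : DRing.torsionSub I (J.X i)) (Subtype.ext x.2.2)
    exact ⟨z, Subtype.ext (show (G.iCycles i z : DRing.torsionSub I (J.X i)).1 = x.1 from congrArg Subtype.val hz)⟩
  let φ := (toColim i I e.symm).comp toCyc
  have hker : LinearMap.ker (G.homologyπ i).hom = LinearMap.ker φ := by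
    ext z
    rw [LinearMap.mem_ker, LinearMap.mem_ker]
    refine (DMod.homologyπ_eq_zero_iff (K := G) (j := i) (i := i - 1) (by simp) z).trans
      (Iff.trans ?_ (toColim_eq_zero_iff I e.symm (toCyc z)).symm)
    constructor
    · rintro ⟨w, hw⟩
      exact ⟨(w : DRing.torsionSub I (J.X (i - 1))).1, w.2, congrArg Subtype.val hw⟩
    · rintro ⟨y, hy, hd⟩
      exact ⟨(⟨y, hy⟩ : DRing.torsionSub I (J.X (i - 1))), Subtype.ext hd⟩
  obtain ⟨l⟩ := HD_iso (K := G) i
  exact ⟨((DerivedCategory.homologyFunctor (ModuleCat.{u} A) i).mapIso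
      (unitIso I J ≪≫ (DRing.RgammaI I).mapIso e.symm).symm).toLinearEquiv ≪≫ₗ l ≪≫ₗ
    (LinearMap.quotKerEquivOfSurjective (G.homologyπ i).hom (DMod.homologyπ_surjective G i)).symm ≪≫ₗ
    Submodule.quotEquivOfEq _ _ hker ≪≫ₗ
    LinearMap.quotKerEquivOfSurjective φ ((toColim_surjective I e.symm).comp hsurj)⟩

end Groth.Agent.RGamma27
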