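import Groth.Agent.Lib.RGamma27.Adj
import Groth.Agent.Lib.ExtCech.Main
import Mathlib.Algebra.Homology.DerivedCategory.Linear
import Mathlib.RingTheory.Finiteness.Ideal
import Mathlib.Algebra.Homology.HomotopyCategory.MappingCocone

/-!
# The extended Čech complex computes the derived torsion functor
-/

set_option autoImplicit false
universe u

open CategoryTheory CategoryTheory.Limits CategoryTheory.Pretriangulated

attribute [local instance] HasDerivedCategory.standard

noncomputable section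

namespace Groth.Agent.RGamma27

variable {A : Type u} [CommRing A]

theorem homologyMap_smul_id (K : DRing.Cx A) (a : A) (j : ℤ) (x : K.homology j) :
    HomologicalComplex.homologyMap (a • 𝟙 K) j x = a • x := by
  obtain ⟨z, rfl⟩ := DMod.homologyπ_surjective K j x
  rw [DMod.homologyMap_π, ← map_smul]
  refine congrArg _ (DMod.iCycles_injective K j ?_)
  rw [DMod.iCycles_cyclesMap, map_smul]
  rfl

theorem HH_smul_id (X : Dual.D A) (a : A) (j : ℤ) (x : Dual.HD A X j) :
    (DMod.HH j).map (a • 𝟙 X) x = a • x := by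
  obtain ⟨J, -, -, ⟨e⟩⟩ := exists_res X
  let h := ((DMod.HH j).mapIso e) ≪≫ (DerivedCategory.homologyFunctorFactors (ModuleCat.{u} A) j).app J
  have h1 : a • 𝟙 X = e.hom ≫ DerivedCategory.Q.map (a • 𝟙 J) ≫ e.inv := by
    rw [Functor.map_smul, CategoryTheory.Functor.map_id, Linear.smul_comp, Category.id_comp, Linear.comp_smul,
      e.hom_inv_id]
  apply h.toLinearEquiv.injective
  rw [h1, map_smul]
  have h2 : (DMod.HH j).map (e.hom ≫ DerivedCategory.Q.map (a • 𝟙 J) ≫ e.inv) ≫ h.hom =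
      h.hom ≫ HomologicalComplex.homologyMap (a • 𝟙 J) j := by
    have hn := (DerivedCategory.homologyFunctorFactors (ModuleCat.{u} A) j).hom.naturality (a • 𝟙 J)
    dsimp [h]
    rw [← Functor.map_comp_assoc, Category.assoc, Category.assoc, e.inv_hom_id, Category.comp_id, Functor.map_comp,
      Category.assoc, Category.assoc]
    exact congrArg (_ ≫ ·) hn
  exact (ConcreteCategory.congr_hom h2 x).trans (homologyMap_smul_id J a j _)

variable [IsNoetherianRing A] (I : Ideal A)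

theorem hom_eq_zero [DRing.HasRgammaI I] {g : A} (hg : g ∈ I) {Y : Dual.D A} (hY : IsIso (g • 𝟙 Y)) {L : Dual.D A}
    (hL : ∀ i : ℤ, LocCoh.IsPowerTorsion I (Dual.HD A L i)) (f : L ⟶ Y) : f = 0 := by
  let R' := (DRing.RgammaI I).obj Y
  have hR : ∀ i : ℤ, LocCoh.IsPowerTorsion I (Dual.HD A R' i) := isPowerTorsion_RgammaI I Y
  obtain ⟨v, hv⟩ := (comp_ε_bijective I R' Y hR).2 ((DRing.RgammaIε I).app Y ≫ inv (g • 𝟙 Y))
  have hv' : v ≫ (DRing.RgammaIε I).app Y = (DRing.RgammaIε I).app Y ≫ inv (g • 𝟙 Y) := hv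
  have h1 : (g • 𝟙 R') ≫ v = 𝟙 R' := by
    apply (comp_ε_bijective I R' Y hR).1
    show ((g • 𝟙 R') ≫ v) ≫ _ = 𝟙 R' ≫ _
    rw [Category.assoc, hv', Category.id_comp, Linear.smul_comp, Category.id_comp]
    calc g • ((DRing.RgammaIε I).app Y ≫ inv (g • 𝟙 Y))
        = (DRing.RgammaIε I).app Y ≫ (g • 𝟙 Y) ≫ inv (g • 𝟙 Y) := by
          have e : ∀ {Z : Dual.D A} (q : Y ⟶ Z), (g • 𝟙 Y) ≫ q = g • q := fun q => by
            rw [Linear.smul_comp, Category.id_comp]
          rw [e, Linear.comp_smul]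
      _ = (DRing.RgammaIε I).app Y := by rw [IsIso.hom_inv_id, Category.comp_id]
  have h2 : ∀ (j : ℤ) (n : ℕ) (m : Dual.HD A R' j), g ^ n • m = 0 → m = 0 := fun j n => by
    induction n with
    | zero => intro m hm; simpa using hm
    | succ n ih =>
      intro m hm
      have h3 : g • m = 0 := ih _ (by rw [← mul_smul, ← pow_succ]; exact hm)
      have h4 := ConcreteCategory.congr_hom (congrArg (DMod.HH j).map h1) m
      rw [Functor.map_comp, CategoryTheory.Functor.map_id, ConcreteCategory.comp_apply, HH_smul_id, h3,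
        map_zero] at h4
      exact h4.symm
  have h5 : IsZero R' := by
    obtain ⟨J, -, -, ⟨e⟩⟩ := exists_res R'
    refine IsZero.of_iso ((isZero_Q_iff J).2 fun j => ?_) e
    obtain ⟨l⟩ := HD_iso (K := J) j
    obtain ⟨l'⟩ : Nonempty (Dual.HD A R' j ≃ₗ[A] Dual.HD A (DerivedCategory.Q.obj J) j) :=
      ⟨((DMod.HH j).mapIso e).toLinearEquiv⟩
    have : Subsingleton (Dual.HD A R' j) := subsingleton_of_forall_eq 0 fun m => by
      obtain ⟨n, hn⟩ := hR j m
      exact h2 j n m (hn _ (Ideal.pow_mem_pow hg n))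
    exact (l'.trans l).symm.toEquiv.subsingleton (β := Dual.HD A R' j)
  obtain ⟨k, rfl⟩ := (comp_ε_bijective I L Y hL).2 f
  show k ≫ _ = 0
  rw [h5.eq_of_tgt k 0, zero_comp]

theorem isIso_smul_shift {g : A} {Y : Dual.D A} (hY : IsIso (g • 𝟙 Y)) (n : ℤ) :
    IsIso (g • 𝟙 ((shiftFunctor (Dual.D A) n).obj Y)) := by
  have : g • 𝟙 ((shiftFunctor (Dual.D A) n).obj Y) = (shiftFunctor (Dual.D A) n).map (g • 𝟙 Y) := by
    rw [Functor.map_smul, CategoryTheory.Functor.map_id]
  rw [this]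
  infer_instance

omit [IsNoetherianRing A] in
theorem isIso_smul_Q {g : A} (E : DRing.Cx A) (h : ∀ i, Function.Bijective fun x : E.X i => g • x) :
    IsIso (g • 𝟙 (DerivedCategory.Q.obj E)) := by
  haveI : ∀ i, IsIso ((g • 𝟙 E : E ⟶ E).f i) := fun i =>
    (ConcreteCategory.isIso_iff_bijective _).2 (h i)
  haveI := HomologicalComplex.Hom.isIso_of_components (g • 𝟙 E)
  rw [show g • 𝟙 (DerivedCategory.Q.obj E) = DerivedCategory.Q.map (g • 𝟙 E) by
    rw [Functor.map_smul, CategoryTheory.Functor.map_id]]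
  infer_instance

theorem fst_comp_bijective [DRing.HasRgammaI I] {g : A} (hg : g ∈ I) {K E : DRing.Cx A} (φ : K ⟶ E)
    (hE : ∀ i, Function.Bijective fun x : E.X i => g • x) {L : Dual.D A}
    (hL : ∀ i : ℤ, LocCoh.IsPowerTorsion I (Dual.HD A L i)) :
    Function.Bijective (fun f : L ⟶ DerivedCategory.Q.obj (CochainComplex.mappingCocone φ) =>
      f ≫ DerivedCategory.Q.map (CochainComplex.mappingCocone.fst φ)) := by
  have hT := DerivedCategory.mappingCocone_triangle_distinguished φ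
  set T := DerivedCategory.Q.mapTriangle.obj (CochainComplex.mappingCocone.triangle φ)
  have hY : IsIso (g • 𝟙 (DerivedCategory.Q.obj E)) := isIso_smul_Q E hE
  refine ⟨fun a b hab => sub_eq_zero.1 ?_, fun f => ?_⟩
  · obtain ⟨h, hh⟩ := Triangle.coyoneda_exact₂ T.invRotate (inv_rot_of_distTriang _ hT) (a - b)
      (show (a - b) ≫ DerivedCategory.Q.map (CochainComplex.mappingCocone.fst φ) = 0 by
        rw [Preadditive.sub_comp, sub_eq_zero]; exact hab)
    exact hh.trans ((congrArg (· ≫ T.invRotate.mor₁)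
      (hom_eq_zero I hg (Y := (DerivedCategory.Q.obj E)⟦(-1 : ℤ)⟧) (isIso_smul_shift hY (-1)) hL h)).trans zero_comp)
  · obtain ⟨h, hh⟩ := Triangle.coyoneda_exact₂ T hT f (hom_eq_zero I hg (Y := DerivedCategory.Q.obj E) hY hL _)
    exact ⟨h, hh.symm⟩

theorem exists_cech_map [DRing.HasRgammaI I] (M : ModuleCat.{u} A) : ∀ (fs : List A), (∀ f ∈ fs, f ∈ I) →
    ∃ c : DerivedCategory.Q.obj (DerCA.extCech M fs) ⟶ (DerivedCategory.singleFunctor (ModuleCat.{u} A) 0).obj M,
      ∀ L : Dual.D A, (∀ i : ℤ, LocCoh.IsPowerTorsion I (Dual.HD A L i)) →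
        Function.Bijective (fun f : L ⟶ DerivedCategory.Q.obj (DerCA.extCech M fs) => f ≫ c)
  | [], _ => by
    refine ⟨𝟙 _, fun L _ => ?_⟩
    exact ⟨fun a b h => (Category.comp_id a).symm.trans ((show a ≫ 𝟙 _ = b ≫ 𝟙 _ from h).trans (Category.comp_id b)),
      fun b => ⟨b, Category.comp_id b⟩⟩
  | g :: fs, hfs => by
    obtain ⟨c, hc⟩ := exists_cech_map M fs fun f hf => hfs f (List.mem_cons_of_mem g hf)
    refine ⟨DerivedCategory.Q.map (CochainComplex.mappingCocone.fst
      (DerCA.locCxUnit (Submonoid.powers g) (DerCA.extCech M fs))) ≫ c, fun L hL => ?_⟩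
    have h := (hc L hL).comp (fst_comp_bijective I (hfs g List.mem_cons_self)
      (DerCA.locCxUnit (Submonoid.powers g) (DerCA.extCech M fs))
      (fun i => by simpa using ExtCechLib.g_bijective g (DerCA.extCech M fs) i 1) hL)
    rw [funext fun f : L ⟶ _ => (Category.assoc f _ _).symm]
    exact h

theorem cech_iso [DRing.HasRgammaI I] (M : ModuleCat.{u} A) (fs : List A) (hfs : ∀ f ∈ fs, f ∈ I)
    (hI : I ≤ (Ideal.span {y : A | y ∈ fs}).radical) :
    Nonempty (DerivedCategory.Q.obj (DerCA.extCech M fs) ≅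
      (DRing.RgammaI I).obj ((DerivedCategory.singleFunctor (ModuleCat.{u} A) 0).obj M)) := by
  let X := DerivedCategory.Q.obj (DerCA.extCech M fs)
  let K := (DerivedCategory.singleFunctor (ModuleCat.{u} A) 0).obj M
  obtain ⟨c, hc⟩ := exists_cech_map I M fs hfs
  obtain ⟨k, hk⟩ := Ideal.exists_pow_le_of_le_radical_of_fg_radical hI (IsNoetherian.noetherian _)
  have hX : ∀ i : ℤ, LocCoh.IsPowerTorsion I (Dual.HD A X i) := fun i => by
    obtain ⟨l⟩ := HD_iso (K := DerCA.extCech M fs) i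
    refine isPowerTorsion_of_equiv I l.symm fun x => ?_
    obtain ⟨n, -, hn⟩ := ExtCechLib.exists_pow_smul_extCechH M fs i x
    obtain ⟨m, hm⟩ := (tors_iff fs).1 (show Tors fs x from fun f hf => ⟨n, hn f hf⟩)
    exact ⟨k * m, fun a ha => hm a (Ideal.pow_right_mono hk m (by rwa [← pow_mul]))⟩
  have hY := isPowerTorsion_RgammaI I K
  obtain ⟨a, ha⟩ := (comp_ε_bijective I X K hX).2 c
  obtain ⟨b, hb⟩ := (hc _ hY).2 ((DRing.RgammaIε I).app K)
  simp only at ha hb
  refine ⟨⟨a, b, (hc X hX).1 ?_, (comp_ε_bijective I _ K hY).1 ?_⟩⟩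
  · show (a ≫ b) ≫ c = 𝟙 X ≫ c
    rw [Category.assoc, hb, Category.id_comp, ha]
  · show (b ≫ a) ≫ _ = 𝟙 _ ≫ _
    rw [Category.assoc, ha, Category.id_comp, hb]

end Groth.Agent.RGamma27
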