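import Groth.Agent.Lib.RGamma27.CechLC
import Groth.Agent.Lib.DCpl.CplTriangle
import Groth.Agent.Lib.ExtCech.Loc

/-!
# Greenlees–May duality over a Noetherian ring
-/

set_option autoImplicit false
universe u

open CategoryTheory CategoryTheory.Limits CategoryTheory.Pretriangulated

attribute [local instance] HasDerivedCategory.standard

noncomputable section

namespace Groth.Agent.RGamma27

open DCpl ExtCechLib

variable {A : Type u} [CommRing A] (I : Ideal A)

theorem isIso_smul_of_finv {g : A} (Y : Dual.D A) (h : ∀ i, FInv (Dual.HD A Y i) g) : IsIso (g • 𝟙 Y) := by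
  rw [DerivedCategory.isIso_iff]
  intro j
  rw [ConcreteCategory.isIso_iff_bijective]
  have e : ⇑(ConcreteCategory.hom ((DMod.HH j).map (g • 𝟙 Y))) = fun x => g • x :=
    funext fun x => HH_smul_id Y g j x
  show Function.Bijective ⇑(ConcreteCategory.hom ((DMod.HH j).map (g • 𝟙 Y)))
  rw [e]
  exact h j

section Torsion

variable [IsNoetherianRing A] [DRing.HasRgammaI I]

theorem comp_complη_bijective {f : A} (hf : f ∈ I) (K : DRing.Cx A) {L : Dual.D A}
    (hL : ∀ i : ℤ, LocCoh.IsPowerTorsion I (Dual.HD A L i)) :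
    Function.Bijective (fun t : L ⟶ DRing.toD K => t ≫ DerivedCategory.Q.map (complη f K)) := by
  have hT := DerivedCategory.triangleOfSES_distinguished (complSC_shortExact f K)
  set T := DerivedCategory.triangleOfSES (complSC_shortExact f K)
  have hY : IsIso (f • 𝟙 (DRing.toD (teleCx f K))) := isIso_smul_of_finv _ (finv_teleCx f K)
  refine ⟨fun a b hab => sub_eq_zero.1 ?_, fun t => ?_⟩
  · obtain ⟨h, hh⟩ := Triangle.coyoneda_exact₂ T.invRotate (inv_rot_of_distTriang _ hT) (a - b)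
      (show (a - b) ≫ DerivedCategory.Q.map (complη f K) = 0 by rw [Preadditive.sub_comp, sub_eq_zero]; exact hab)
    exact hh.trans ((congrArg (· ≫ T.invRotate.mor₁) (hom_eq_zero I hf
      (Y := (DRing.toD (teleCx f K))⟦(-1 : ℤ)⟧) (isIso_smul_shift hY (-1)) hL h)).trans zero_comp)
  · obtain ⟨h, hh⟩ := Triangle.coyoneda_exact₂ T hT t (hom_eq_zero I hf (Y := DRing.toD (teleCx f K)) hY hL _)
    exact ⟨h, hh.symm⟩

theorem exists_cpl_torsion : ∀ (s : List A), (∀ f ∈ s, f ∈ I) → ∀ K : Dual.D A, ∃ (C : Dual.D A) (η : K ⟶ C),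
    IsCpl {f | f ∈ s} η ∧ (∀ g, DCD K g → DCD C g) ∧
      ∀ L : Dual.D A, (∀ i : ℤ, LocCoh.IsPowerTorsion I (Dual.HD A L i)) → Function.Bijective (fun t : L ⟶ K => t ≫ η)
  | [], _, K => ⟨K, 𝟙 K, ⟨fun f hf => absurd hf (by simp), fun E _ =>
      ⟨fun a b h => by simpa using h, fun t => ⟨t, Category.id_comp t⟩⟩⟩, fun g h => h, fun L _ =>
      ⟨fun a b h => by simpa using h, fun t => ⟨t, Category.comp_id t⟩⟩⟩
  | f :: t, hs, K => by
    obtain ⟨C, η, ⟨hC, hU⟩, hp, hv⟩ := exists_cpl_torsion t (fun g hg => hs g (List.mem_cons_of_mem f hg)) K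
    haveI : (DerivedCategory.Q : DRing.Cx A ⥤ Dual.D A).EssSurj :=
      Localization.essSurj _ (HomologicalComplex.quasiIso (ModuleCat.{u} A) (ComplexShape.up ℤ))
    let L := (DerivedCategory.Q : DRing.Cx A ⥤ Dual.D A).objPreimage C
    let e : DRing.toD L ≅ C := (DerivedCategory.Q : DRing.Cx A ⥤ Dual.D A).objObjPreimageIso C
    obtain ⟨hC', hU'⟩ := isCpl_single f L
    have hpres : ∀ g, DCD C g → DCD (DRing.toD (complCx f L)) g := fun g hg =>
      dc_complCx_of_dc f L g (hg.of_iso e.symm)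
    refine ⟨DRing.toD (complCx f L), η ≫ e.inv ≫ DerivedCategory.Q.map (complη f L),
      ⟨fun g hg => ?_, fun E hE => ?_⟩, fun g hg => hpres g (hp g hg), fun M hM => ?_⟩
    · rcases List.mem_cons.1 hg with rfl | hg'
      · exact hC' _ rfl
      · exact hpres g (hC g hg')
    · have h1 := hU' E fun g hg => hE g (by rw [Set.mem_singleton_iff.1 hg]; exact List.mem_cons_self ..)
      have h2 := hU E fun g hg => hE g (List.mem_cons_of_mem f hg)
      have : (fun x : DRing.toD (complCx f L) ⟶ E => (η ≫ e.inv ≫ DerivedCategory.Q.map (complη f L)) ≫ x) =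
          (fun x : C ⟶ E => η ≫ x) ∘ (fun x : DRing.toD L ⟶ E => e.inv ≫ x) ∘
            fun x => DerivedCategory.Q.map (complη f L) ≫ x := funext fun x => by simp
      rw [this]
      have he : Function.Bijective fun x : DRing.toD L ⟶ E => e.inv ≫ x :=
        ⟨fun a b h => (cancel_epi e.inv).1 h, fun x => ⟨e.hom ≫ x, by simp⟩⟩
      exact h2.comp (he.comp h1)
    · have : (fun x : M ⟶ K => x ≫ η ≫ e.inv ≫ DerivedCategory.Q.map (complη f L)) =
          (fun x : M ⟶ DRing.toD L => x ≫ DerivedCategory.Q.map (complη f L)) ∘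
            (fun x : M ⟶ C => x ≫ e.inv) ∘ fun x => x ≫ η := funext fun x => by simp
      rw [this]
      have he : Function.Bijective fun x : M ⟶ C => x ≫ e.inv :=
        ⟨fun a b h => (cancel_mono e.inv).1 h, fun x => ⟨x ≫ e.hom, by simp⟩⟩
      exact (comp_complη_bijective I (hs f List.mem_cons_self) L hM).comp (he.comp (hv M hM))

theorem RgammaI_completion [DRing.HasDerivedCompletion I] (K : Dual.D A) :
    Nonempty ((DRing.RgammaI I).obj ((DRing.derivedCompletion I).obj K).obj ≅ (DRing.RgammaI I).obj K) := by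
  obtain ⟨s, hs⟩ := exists_list I (IsNoetherian.noetherian I)
  obtain ⟨C, η, hη, -, hb⟩ := exists_cpl_torsion I s (fun f hf => hs ▸ Ideal.subset_span hf) K
  obtain ⟨e, he⟩ := nonempty_iso_of_isCpl I _ hs hη
  let K' := ((DRing.derivedCompletion I).obj K).obj
  let η' : K ⟶ K' := DRing.toDerivedCompletion I K
  have hb' : ∀ L : Dual.D A, (∀ i : ℤ, LocCoh.IsPowerTorsion I (Dual.HD A L i)) →
      Function.Bijective (fun t : L ⟶ K => t ≫ η') := fun L hL => by
    have : (fun t : L ⟶ K => t ≫ η') = (fun t : L ⟶ C => t ≫ e.inv) ∘ fun t => t ≫ η := funext fun t => by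
      simp only [Function.comp_apply, Category.assoc, ← he, η', Iso.hom_inv_id, Category.comp_id]
    rw [this]
    exact Function.Bijective.comp ⟨fun a b h => (cancel_mono e.inv).1 h, fun x => ⟨x ≫ e.hom, by simp⟩⟩ (hb L hL)
  let X := (DRing.RgammaI I).obj K
  let Y := (DRing.RgammaI I).obj K'
  have hX := isPowerTorsion_RgammaI I K
  have hY := isPowerTorsion_RgammaI I K'
  obtain ⟨a, ha⟩ := (comp_ε_bijective I X K' hX).2 ((DRing.RgammaIε I).app K ≫ η')
  obtain ⟨c, hc⟩ := (hb' Y hY).2 ((DRing.RgammaIε I).app K')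
  obtain ⟨b, hb₂⟩ := (comp_ε_bijective I Y K hY).2 c
  simp only at ha hc hb₂
  refine ⟨⟨b, a, (comp_ε_bijective I Y K' hY).1 ?_, (comp_ε_bijective I X K hX).1 ((hb' X hX).1 ?_)⟩⟩
  · show (b ≫ a) ≫ _ = 𝟙 _ ≫ _
    rw [Category.assoc, ha, ← Category.assoc, hb₂, hc, Category.id_comp]
  · show ((a ≫ b) ≫ _) ≫ η' = (𝟙 _ ≫ _) ≫ η'
    rw [Category.assoc a b, hb₂, Category.assoc, hc, ha, Category.id_comp]

end Torsion

theorem subsingleton_hom_of_bijective {g : A} (Z : DRing.Cx A) (hZ : ∀ i, Function.Bijective fun x : Z.X i => g • x)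
    (E : Dual.D A) (hE : DCD E g) : Subsingleton (DRing.toD Z ⟶ E) :=
  subsingleton_hom_of_finv g Z (finv_homology Z g hZ) E hE

theorem fst_precomp_bijective {g : A} {K Z : DRing.Cx A} (φ : K ⟶ Z)
    (hZ : ∀ i, Function.Bijective fun x : Z.X i => g • x) (E : Dual.D A) (hE : DCD E g) :
    Function.Bijective (fun t : DRing.toD K ⟶ E => DerivedCategory.Q.map (CochainComplex.mappingCocone.fst φ) ≫ t) := by
  have hT := DerivedCategory.mappingCocone_triangle_distinguished φ
  set T := DerivedCategory.Q.mapTriangle.obj (CochainComplex.mappingCocone.triangle φ)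
  have h0 := subsingleton_hom_of_bijective Z hZ E hE
  have h1 : Subsingleton ((DRing.toD Z)⟦(-1 : ℤ)⟧ ⟶ E) := by
    have := subsingleton_hom_of_bijective (g := g) (Z⟦(-1 : ℤ)⟧) (fun i => hZ (i + -1)) E hE
    exact @Equiv.subsingleton _ _ (Iso.homCongr ((DerivedCategory.Q.commShiftIso (-1 : ℤ)).app Z) (Iso.refl E)).symm this
  refine ⟨fun a b hab => sub_eq_zero.1 ?_, fun t => ?_⟩
  · obtain ⟨r, hr⟩ := Triangle.yoneda_exact₂ T hT (a - b)
      (show DerivedCategory.Q.map (CochainComplex.mappingCocone.fst φ) ≫ (a - b) = 0 by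
        rw [Preadditive.comp_sub, sub_eq_zero]; exact hab)
    exact hr.trans ((congrArg (T.mor₂ ≫ ·) (@Subsingleton.elim _ h0 r 0)).trans comp_zero)
  · obtain ⟨r, hr⟩ := Triangle.yoneda_exact₂ T.invRotate (inv_rot_of_distTriang _ hT) t
      (@Subsingleton.elim _ h1 _ _)
    exact ⟨r, hr.symm⟩

variable [IsNoetherianRing A] [DRing.HasRgammaI I]

theorem exists_cech_cx (J : DRing.Cx A) : ∀ (fs : List A), (∀ f ∈ fs, f ∈ I) →
    ∃ (T : DRing.Cx A) (c : DerivedCategory.Q.obj T ⟶ DerivedCategory.Q.obj J),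
      (∀ L : Dual.D A, (∀ i : ℤ, LocCoh.IsPowerTorsion I (Dual.HD A L i)) →
        Function.Bijective (fun t : L ⟶ DerivedCategory.Q.obj T => t ≫ c)) ∧
      (∀ E : Dual.D A, (∀ f ∈ fs, DCD E f) → Function.Bijective (fun t : DerivedCategory.Q.obj J ⟶ E => c ≫ t)) ∧
      ∀ (q : ℤ), ∀ x ∈ Cy T q, ∀ f ∈ fs, f ∈ (annBd T x).radical
  | [], _ => ⟨J, 𝟙 _, fun L _ => ⟨fun a b h => by simpa using h, fun t => ⟨t, Category.comp_id t⟩⟩,
      fun E _ => ⟨fun a b h => by simpa using h, fun t => ⟨t, Category.id_comp t⟩⟩,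
      fun q x _ f hf => absurd hf List.not_mem_nil⟩
  | g :: fs, hfs => by
    obtain ⟨T, c, hc, hc', hr⟩ := exists_cech_cx J fs fun f hf => hfs f (List.mem_cons_of_mem g hf)
    have hZ : ∀ i, Function.Bijective fun x : (Lg g T).X i => g • x := fun i => by
      simpa using g_bijective g T i 1
    refine ⟨CochainComplex.mappingCocone (φg g T),
      DerivedCategory.Q.map (CochainComplex.mappingCocone.fst (φg g T)) ≫ c, fun L hL => ?_, fun E hE => ?_, ?_⟩
    · have h := (hc L hL).comp (fst_comp_bijective I (hfs g List.mem_cons_self) (φg g T) hZ hL)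
      rw [funext fun t : L ⟶ _ => (Category.assoc t _ _).symm]
      exact h
    · have h := (fst_precomp_bijective (φg g T) hZ E (hE g List.mem_cons_self)).comp
        (hc' E fun f hf => hE f (List.mem_cons_of_mem g hf))
      rw [funext fun t : DerivedCategory.Q.obj J ⟶ E => Category.assoc _ _ t]
      exact h
    · intro q z hz f hf
      change (CochainComplex.mappingCone (φg g T)).X (q + -1) at z
      have hz' : z ∈ Cy (CochainComplex.mappingCone (φg g T)) (q + -1) :=
        (SetLike.ext_iff.1 (Cy_cocone _ (φg g T) q) z).1 hz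
      obtain ⟨n, hn⟩ : f ∈ (annBd (CochainComplex.mappingCone (φg g T)) z).radical := by
        refine radical_cocone f q ?_ z hz'
        rcases List.mem_cons.1 hf with rfl | hf
        · exact Or.inl rfl
        · exact Or.inr ⟨fun x hx => hr q x hx f hf, fun x hx =>
            radical_loc (i := q + -1 - 1) (k := q + -1 + 1) (by omega) rfl (fun y hy => hr _ y hy f hf) x hx⟩
      exact ⟨n, (mem_annBd _).2 ((SetLike.ext_iff.1 (Bd_cocone _ (φg g T) q) _).2 ((mem_annBd _).1 hn))⟩

theorem ε_precomp_bijective (K : Dual.D A) (E : Dual.D A) (hE : ∀ f ∈ I, DCD E f) :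
    Function.Bijective (fun t : K ⟶ E => (DRing.RgammaIε I).app K ≫ t) := by
  obtain ⟨J, -, -, ⟨e⟩⟩ := exists_res K
  haveI := hasDerivedCompletion I (IsNoetherian.noetherian I)
  obtain ⟨s, hs⟩ := exists_list I (IsNoetherian.noetherian I)
  have hs' : ∀ f ∈ s, f ∈ I := fun f hf => hs ▸ Ideal.subset_span hf
  obtain ⟨T, c, hc, hc', hr⟩ := exists_cech_cx I J s hs'
  have hT : ∀ i : ℤ, LocCoh.IsPowerTorsion I (Dual.HD A (DerivedCategory.Q.obj T) i) := fun i => by
    obtain ⟨l⟩ := HD_iso (K := T) i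
    refine isPowerTorsion_of_equiv I l.symm fun x => ?_
    have h : Tors s x := fun f hf => (exists_smul_eq_zero_iff T i f).2 (fun y hy => hr i y hy f hf) x
    have h' := (tors_iff s).1 h
    rw [hs] at h'
    exact h'
  obtain ⟨a, ha⟩ := (comp_ε_bijective I _ K hT).2 (c ≫ e.inv)
  obtain ⟨b, hb⟩ := (hc _ (isPowerTorsion_RgammaI I K)).2 ((DRing.RgammaIε I).app K ≫ e.hom)
  simp only at ha hb
  have hab : a ≫ b = 𝟙 _ := (hc _ hT).1 (by
    show (a ≫ b) ≫ c = 𝟙 _ ≫ c
    rw [Category.assoc, hb, ← Category.assoc, ha, Category.assoc, e.inv_hom_id, Category.comp_id, Category.id_comp])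
  have hba : b ≫ a = 𝟙 _ := (comp_ε_bijective I _ K (isPowerTorsion_RgammaI I K)).1 (by
    show (b ≫ a) ≫ _ = 𝟙 _ ≫ _
    rw [Category.assoc, ha, ← Category.assoc, hb, Category.assoc, e.hom_inv_id, Category.id_comp]
    exact Category.comp_id _)
  have hε : (DRing.RgammaIε I).app K = b ≫ c ≫ e.inv := by
    rw [← Category.assoc, hb, Category.assoc, e.hom_inv_id]
    exact (Category.comp_id _).symm
  have : (fun t : K ⟶ E => (DRing.RgammaIε I).app K ≫ t) =
      (fun t : DerivedCategory.Q.obj T ⟶ E => b ≫ t) ∘ (fun t : DerivedCategory.Q.obj J ⟶ E => c ≫ t) ∘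
        fun t => e.inv ≫ t := funext fun t => by
    simp only [Function.comp_apply, hε, Category.assoc]
  rw [this]
  refine Function.Bijective.comp ⟨fun x y h => ?_, fun x => ⟨a ≫ x, ?_⟩⟩
    ((hc' E fun f hf => hE f (hs' f hf)).comp ⟨fun x y h => (cancel_epi e.inv).1 h, fun x => ⟨e.hom ≫ x, by simp⟩⟩)
  · have h' := congrArg (a ≫ ·) h
    simpa [← Category.assoc, hab] using h'
  · simp [← Category.assoc, hba]

theorem completion_RgammaI [DRing.HasDerivedCompletion I] (K : Dual.D A) :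
    Nonempty ((DRing.derivedCompletion I).obj ((DRing.RgammaI I).obj K) ≅ (DRing.derivedCompletion I).obj K) := by
  obtain ⟨s, hs⟩ := exists_list I (IsNoetherian.noetherian I)
  have h := isCpl_unit I _ hs K
  have h' : IsCpl {f | f ∈ s} ((DRing.RgammaIε I).app K ≫ DRing.toDerivedCompletion I K) := by
    refine ⟨h.1, fun E hE => ?_⟩
    have hEI : ∀ f ∈ I, DCD E f :=
      (isDerivedComplete_iff I E).1 ((isDerivedComplete_iff_span I _ hs E).2 hE)
    rw [funext fun t : _ ⟶ E => Category.assoc ((DRing.RgammaIε I).app K) (DRing.toDerivedCompletion I K) t]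
    exact (ε_precomp_bijective I K E hEI).comp (h.2 E hE)
  obtain ⟨e, -⟩ := nonempty_iso_of_isCpl I _ hs h'
  exact ⟨(ObjectProperty.fullyFaithfulι _).preimageIso e⟩

end Groth.Agent.RGamma27
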