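import Groth.Agent.Lib.RGamma27.CechLC
import Groth.Agent.Lib.DBaseChange.Value
import Mathlib.Algebra.Category.ModuleCat.Monoidal.Adjunction
import Mathlib.Algebra.Homology.HomotopyCategory.Pretriangulated
import Mathlib.RingTheory.Localization.BaseChange
import Mathlib.RingTheory.Flat.Stability
import Mathlib.Algebra.Category.ModuleCat.Biproducts

/-!
# The extended Čech complex commutes with extension of scalars
-/

set_option autoImplicit false
universe u

open CategoryTheory CategoryTheory.Limits CategoryTheory.MonoidalCategory TensorProduct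

attribute [local instance] HasDerivedCategory.standard

noncomputable section

namespace Groth.Agent.RGamma27

variable {A B : Type u} [CommRing A] [CommRing B] (φ : A →+* B) (g : A)

/-- The extended localisation map. -/
abbrev extLoc (X : ModuleCat.{u} A) :
    (ModuleCat.extendScalars.{u, u, u} φ).obj X ⟶
      (ModuleCat.extendScalars.{u, u, u} φ).obj ((DerCA.locFunctor (Submonoid.powers g)).obj X) :=
  (ModuleCat.extendScalars.{u, u, u} φ).map ((DerCA.locUnit (Submonoid.powers g)).app X)

theorem pow_smul_ext (X : ModuleCat.{u} A) (a : A) (x : (ModuleCat.extendScalars.{u, u, u} φ).obj X) :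
    φ a • x = (ModuleCat.extendScalars.{u, u, u} φ).map (a • 𝟙 X) x := by
  let F := (ModuleCat.extendScalars.{u, u, u} φ).map (a • 𝟙 X)
  change φ a • x = F x
  induction x using TensorProduct.induction_on with
  | zero => exact (smul_zero (A := (ModuleCat.extendScalars.{u, u, u} φ).obj X) (φ a)).trans (map_zero F.hom).symm
  | tmul s m =>
    exact (TensorProduct.smul_tmul (R := A) (R' := A) (M := (ModuleCat.restrictScalars φ).obj (ModuleCat.of B B))
      (N := X) a s m)
  | add x y hx hy =>
    exact (smul_add (A := (ModuleCat.extendScalars.{u, u, u} φ).obj X) (φ a) x y).trans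
      ((congrArg₂ (· + ·) hx hy).trans (map_add F.hom x y).symm)

theorem ext_units (X : ModuleCat.{u} A) (n : ℕ) :
    Function.Bijective fun x : (ModuleCat.extendScalars.{u, u, u} φ).obj ((DerCA.locFunctor (Submonoid.powers g)).obj X) =>
      φ g ^ n • x := by
  let L := (DerCA.locFunctor (Submonoid.powers g)).obj X
  haveI : IsIso (g ^ n • 𝟙 L) := (ConcreteCategory.isIso_iff_bijective _).2
    ((Module.End.isUnit_iff _).1 (IsLocalizedModule.map_units (LocalizedModule.mkLinearMap (Submonoid.powers g) X)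
      (⟨g ^ n, n, rfl⟩ : Submonoid.powers g)))
  have h := (ConcreteCategory.isIso_iff_bijective ((ModuleCat.extendScalars.{u, u, u} φ).map (g ^ n • 𝟙 L))).1 inferInstance
  have e : (fun x : (ModuleCat.extendScalars.{u, u, u} φ).obj L => φ g ^ n • x) =
      ⇑(ConcreteCategory.hom ((ModuleCat.extendScalars.{u, u, u} φ).map (g ^ n • 𝟙 L))) :=
    funext fun x => by rw [← map_pow]; exact pow_smul_ext φ L (g ^ n) x
  show Function.Bijective (fun x : (ModuleCat.extendScalars.{u, u, u} φ).obj L => φ g ^ n • x)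
  rw [e]
  exact h

theorem exists_comparison (X : ModuleCat.{u} A) :
    ∃ u : (ModuleCat.extendScalars.{u, u, u} φ).obj ((DerCA.locFunctor (Submonoid.powers g)).obj X) ⟶
      (DerCA.locFunctor (Submonoid.powers (φ g))).obj ((ModuleCat.extendScalars.{u, u, u} φ).obj X),
      extLoc φ g X ≫ u = (DerCA.locUnit (Submonoid.powers (φ g))).app ((ModuleCat.extendScalars.{u, u, u} φ).obj X) := by
  let E := (ModuleCat.extendScalars.{u, u, u} φ).obj X
  let Y := (DerCA.locFunctor (Submonoid.powers (φ g))).obj E
  let adj := ModuleCat.extendRestrictScalarsAdj.{u, u, u} φ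
  let w : X ⟶ (ModuleCat.restrictScalars φ).obj Y :=
    adj.homEquiv X Y ((DerCA.locUnit (Submonoid.powers (φ g))).app E)
  have hu : ∀ s : Submonoid.powers g, IsUnit (algebraMap A (Module.End A ((ModuleCat.restrictScalars φ).obj Y)) s) := by
    rintro ⟨s, n, rfl⟩
    have h := (Module.End.isUnit_iff _).1 (IsLocalizedModule.map_units
      (LocalizedModule.mkLinearMap (Submonoid.powers (φ g)) E) (⟨φ g ^ n, n, rfl⟩ : Submonoid.powers (φ g)))
    refine (Module.End.isUnit_iff _).2 ?_
    have e : ⇑(algebraMap A (Module.End A ((ModuleCat.restrictScalars φ).obj Y)) (g ^ n)) =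
        ⇑(algebraMap B (Module.End B Y) (φ g ^ n)) := by
      funext y
      show φ (g ^ n) • (y : Y) = φ g ^ n • (y : Y)
      rw [map_pow]
    exact e ▸ h
  let v : ModuleCat.of A (LocalizedModule (Submonoid.powers g) X) ⟶ (ModuleCat.restrictScalars φ).obj Y :=
    ModuleCat.ofHom (X := LocalizedModule (Submonoid.powers g) X) (Y := ((ModuleCat.restrictScalars φ).obj Y : ModuleCat.{u} A))
      (IsLocalizedModule.lift (Submonoid.powers g)
      (LocalizedModule.mkLinearMap (Submonoid.powers g) X) w.hom hu)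
  have hv : ModuleCat.ofHom (LocalizedModule.mkLinearMap (Submonoid.powers g) X) ≫ v = w :=
    ModuleCat.hom_ext (IsLocalizedModule.lift_comp _ _ _ hu)
  refine ⟨(adj.homEquiv _ _).symm v, ?_⟩
  show (ModuleCat.extendScalars.{u, u, u} φ).map ((DerCA.locUnit (Submonoid.powers g)).app X) ≫ _ = _
  refine ((Adjunction.homEquiv_naturality_left_symm adj _ _).symm.trans (congrArg (adj.homEquiv X Y).symm hv)).trans ?_
  exact (adj.homEquiv X Y).symm_apply_apply _

theorem isLocalizedModule_ext (X : ModuleCat.{u} A) :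
    IsLocalizedModule (Submonoid.powers (φ g)) (extLoc φ g X).hom where
  map_units := by
    rintro ⟨s, n, rfl⟩
    exact (Module.End.isUnit_iff _).2 (ext_units φ g X n)
  surj z := by
    let F := extLoc φ g X
    let E := (ModuleCat.extendScalars.{u, u, u} φ).obj X
    let E' := (ModuleCat.extendScalars.{u, u, u} φ).obj ((DerCA.locFunctor (Submonoid.powers g)).obj X)
    suffices h : ∃ (n : ℕ) (y : E), φ g ^ n • (show E' from z) = F y by
      obtain ⟨n, y, h⟩ := h
      exact ⟨(y, ⟨φ g ^ n, n, rfl⟩), h⟩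
    induction z using TensorProduct.induction_on with
    | zero => exact ⟨0, 0, (smul_zero (A := E') _).trans (map_zero F.hom).symm⟩
    | tmul s l =>
      obtain ⟨⟨y, ⟨t, n, rfl⟩⟩, hy⟩ :=
        IsLocalizedModule.surj (Submonoid.powers g) (LocalizedModule.mkLinearMap (Submonoid.powers g) X) l
      refine ⟨n, s ⊗ₜ y, ?_⟩
      rw [← map_pow, pow_smul_ext]
      exact congrArg (fun t : (DerCA.locFunctor (Submonoid.powers g)).obj X => (s ⊗ₜ[A] t : E')) hy
    | add x y hx hy =>
      obtain ⟨n, a, ha⟩ := hx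
      obtain ⟨m, b, hb⟩ := hy
      refine ⟨n + m, φ g ^ m • a + φ g ^ n • b, ?_⟩
      refine (smul_add (A := E') _ x y).trans ?_
      rw [map_add, map_smul, map_smul, ← ha, ← hb, ← mul_smul, ← mul_smul, ← pow_add, ← pow_add, add_comm m n]
  exists_of_eq {x y} h := by
    obtain ⟨u, hu⟩ := exists_comparison φ g X
    have h' : ∀ z, u (extLoc φ g X z) =
        LocalizedModule.mkLinearMap (Submonoid.powers (φ g)) _ z := fun z => ConcreteCategory.congr_hom hu z
    have h'' := (h' x).symm.trans ((congrArg u h).trans (h' y))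
    exact (IsLocalizedModule.eq_iff_exists (Submonoid.powers (φ g))
      (LocalizedModule.mkLinearMap (Submonoid.powers (φ g)) ((ModuleCat.extendScalars.{u, u, u} φ).obj X))).1 h''

/-- Extension of scalars commutes with localisation. -/
def extLocIso (X : ModuleCat.{u} A) :
    (ModuleCat.extendScalars.{u, u, u} φ).obj ((DerCA.locFunctor (Submonoid.powers g)).obj X) ≅
      (DerCA.locFunctor (Submonoid.powers (φ g))).obj ((ModuleCat.extendScalars.{u, u, u} φ).obj X) :=
  haveI := isLocalizedModule_ext φ g X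
  (IsLocalizedModule.iso (Submonoid.powers (φ g)) (extLoc φ g X).hom).symm.toModuleIso

theorem extLoc_iso (X : ModuleCat.{u} A) :
    extLoc φ g X ≫ (extLocIso φ g X).hom =
      (DerCA.locUnit (Submonoid.powers (φ g))).app ((ModuleCat.extendScalars.{u, u, u} φ).obj X) :=
  haveI := isLocalizedModule_ext φ g X
  ModuleCat.hom_ext (IsLocalizedModule.iso_symm_comp (Submonoid.powers (φ g)) (extLoc φ g X).hom)

theorem extLocIso_natural {X Y : ModuleCat.{u} A} (f : X ⟶ Y) :
    (extLocIso φ g X).hom ≫ (DerCA.locFunctor (Submonoid.powers (φ g))).map ((ModuleCat.extendScalars.{u, u, u} φ).map f) =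
      (ModuleCat.extendScalars.{u, u, u} φ).map ((DerCA.locFunctor (Submonoid.powers g)).map f) ≫ (extLocIso φ g Y).hom := by
  haveI := isLocalizedModule_ext φ g X
  apply ModuleCat.hom_ext
  refine IsLocalizedModule.ext (Submonoid.powers (φ g)) (extLoc φ g X).hom
    (IsLocalizedModule.map_units (LocalizedModule.mkLinearMap (Submonoid.powers (φ g))
      ((ModuleCat.extendScalars.{u, u, u} φ).obj Y))) ?_
  refine congrArg ModuleCat.Hom.hom (a₁ := extLoc φ g X ≫ (extLocIso φ g X).hom ≫ _) (a₂ := extLoc φ g X ≫ _ ≫ _) ?_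
  rw [reassoc_of% (extLoc_iso φ g X), ← (DerCA.locUnit (Submonoid.powers (φ g))).naturality, ← Functor.map_comp_assoc,
    ← (DerCA.locUnit (Submonoid.powers g)).naturality, Functor.map_comp_assoc]
  exact congrArg ((ModuleCat.extendScalars.{u, u, u} φ).map f ≫ ·) (extLoc_iso φ g Y).symm

/-- Extension of scalars commutes with localisation of complexes. -/
def extLocCxIso (K : DRing.Cx A) :
    (DBaseChange.extCx φ).obj ((DerCA.locCx (Submonoid.powers g)).obj K) ≅
      (DerCA.locCx (Submonoid.powers (φ g))).obj ((DBaseChange.extCx φ).obj K) :=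
  HomologicalComplex.Hom.isoOfComponents (fun i => extLocIso φ g (K.X i)) fun i j _ => extLocIso_natural φ g (K.d i j)

theorem extLocCxIso_comp (K : DRing.Cx A) :
    (DBaseChange.extCx φ).map (DerCA.locCxUnit (Submonoid.powers g) K) ≫ (extLocCxIso φ g K).hom =
      DerCA.locCxUnit (Submonoid.powers (φ g)) ((DBaseChange.extCx φ).obj K) := by
  ext i : 1
  exact extLoc_iso φ g (K.X i)

omit φ g in
theorem nonempty_cone_iso {K L K' L' : DRing.Cx B} (f : K ⟶ L) (f' : K' ⟶ L') (a : K ≅ K') (b : L ≅ L')
    (comm : f ≫ b.hom = a.hom ≫ f') :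
    Nonempty (CochainComplex.mappingCone f ≅ CochainComplex.mappingCone f') := by
  have comm' : f' ≫ b.inv = a.inv ≫ f := by
    rw [← cancel_epi a.hom, ← reassoc_of% comm, Iso.hom_inv_id, Category.comp_id, Iso.hom_inv_id_assoc]
  refine ⟨⟨CochainComplex.mappingCone.map f f' a.hom b.hom comm, CochainComplex.mappingCone.map f' f a.inv b.inv comm', ?_, ?_⟩⟩
  · rw [← CochainComplex.mappingCone.map_comp]
    simp only [Iso.hom_inv_id, CochainComplex.mappingCone.map_id]
  · rw [← CochainComplex.mappingCone.map_comp]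
    simp only [Iso.inv_hom_id, CochainComplex.mappingCone.map_id]

theorem exists_ext_cech_iso : ∀ fs : List A,
    Nonempty ((DBaseChange.extCx φ).obj (DerCA.extCech (ModuleCat.of A A) fs) ≅
      DerCA.extCech (ModuleCat.of B B) (fs.map φ))
  | [] => ⟨(HomologicalComplex.singleMapHomologicalComplex (ModuleCat.extendScalars.{u, u, u} φ)
      (ComplexShape.up ℤ) 0).app (ModuleCat.of A A) ≪≫
      (HomologicalComplex.single (ModuleCat.{u} B) (ComplexShape.up ℤ) 0).mapIso
        (Functor.Monoidal.εIso (ModuleCat.extendScalars.{u, u, u} φ)).symm⟩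
  | g :: fs => by
    obtain ⟨a⟩ := exists_ext_cech_iso fs
    let C := DerCA.extCech (ModuleCat.of A A) fs
    let C' := DerCA.extCech (ModuleCat.of B B) (fs.map φ)
    obtain ⟨c⟩ := nonempty_cone_iso ((DBaseChange.extCx φ).map (DerCA.locCxUnit (Submonoid.powers g) C))
      (DerCA.locCxUnit (Submonoid.powers (φ g)) C') a
      (extLocCxIso φ g C ≪≫ (DerCA.locCx (Submonoid.powers (φ g))).mapIso a) (by
        rw [Iso.trans_hom, reassoc_of% (extLocCxIso_comp φ g C)]
        ext i : 1
        exact ((DerCA.locUnit (Submonoid.powers (φ g))).naturality (a.hom.f i)).symm)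
    exact ⟨((DBaseChange.extCx φ).commShiftIso (-1 : ℤ)).app
        (CochainComplex.mappingCone (DerCA.locCxUnit (Submonoid.powers g) C)) ≪≫
      (shiftFunctor (DRing.Cx B) (-1 : ℤ)).mapIso
        (CochainComplex.mappingCone.mapHomologicalComplexIso _ (ModuleCat.extendScalars.{u, u, u} φ) ≪≫ c)⟩

theorem flat_localized (g : A) (M : Type u) [AddCommGroup M] [Module A M] [Module.Flat A M] :
    Module.Flat A (LocalizedModule (Submonoid.powers g) M) :=
  Module.Flat.of_linearEquiv ((LocalizedModule.equivTensorProduct (Submonoid.powers g) M).restrictScalars A)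

theorem flat_cech : ∀ (fs : List A) (i : ℤ),
    Module.Flat A ((DerCA.extCech (ModuleCat.of A A) fs).X i)
  | [], i => by
    by_cases hi : i = 0
    · subst hi
      exact Module.Flat.of_linearEquiv
        (HomologicalComplex.singleObjXSelf (ComplexShape.up ℤ) 0 (ModuleCat.of A A)).toLinearEquiv
    · have : IsZero ((DerCA.extCech (ModuleCat.of A A) ([] : List A)).X i) :=
        HomologicalComplex.isZero_single_obj_X _ _ _ _ hi
      have := ModuleCat.subsingleton_of_isZero this
      exact Module.Flat.of_free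
  | g :: fs, i => by
    let C := DerCA.extCech (ModuleCat.of A A) fs
    exact DMod.cone_mem DMod.modClass_flat (DerCA.locCxUnit (Submonoid.powers g) C) (flat_cech fs) (fun j => by
      haveI := flat_cech fs j
      exact flat_localized g (C.X j)) (i + -1)

theorem isStrictlyLE_cech (fs : List A) :
    (DerCA.extCech (ModuleCat.of A A) fs).IsStrictlyLE (fs.length : ℤ) := by
  rw [CochainComplex.isStrictlyLE_iff]
  intro i hi
  exact (DMod.isZero_iff_subsingleton _).2
    (subsingleton_of_forall_eq 0 (ExtCechLib.X_range (ModuleCat.of A A) fs i (Or.inr hi)))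

theorem lBaseChange_cech [DRing.HasLBaseChange φ] (fs : List A) :
    Nonempty ((DRing.LBaseChange φ).obj (DerivedCategory.Q.obj (DerCA.extCech (ModuleCat.of A A) fs)) ≅
      DerivedCategory.Q.obj (DerCA.extCech (ModuleCat.of B B) (fs.map φ))) := by
  obtain ⟨e⟩ := exists_ext_cech_iso φ fs
  haveI := isStrictlyLE_cech (A := A) fs
  exact ⟨DBaseChange.valueIso φ _ (DBaseChange.adapted_of_flat _ (fs.length : ℤ) (flat_cech fs)) ≪≫
    DerivedCategory.Q.mapIso e⟩

theorem frobenius_RgammaI (p : ℕ) [Fact p.Prime] (A : Type u) [CommRing A] [IsNoetherianRing A] [CharP A p]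
    (I : Ideal A) [DRing.HasRgammaI I] [DRing.HasLBaseChange (frobenius A p)] :
    Nonempty ((DRing.LBaseChange (frobenius A p)).obj ((DRing.RgammaI I).obj (Dual.inD A A)) ≅
      (DRing.RgammaI I).obj (Dual.inD A A)) := by
  obtain ⟨T, hT⟩ := IsNoetherian.noetherian I
  have hI : Ideal.span {y : A | y ∈ T.toList} = I := by rw [← hT]; congr 1; ext; simp
  have hmem : ∀ f ∈ T.toList, f ∈ I := fun f hf => hI ▸ Ideal.subset_span hf
  have hp : 0 < p := (Fact.out : p.Prime).pos
  obtain ⟨e⟩ := cech_iso I (ModuleCat.of A A) T.toList hmem (hI.symm ▸ Ideal.le_radical)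
  obtain ⟨b⟩ := lBaseChange_cech (frobenius A p) T.toList
  obtain ⟨e'⟩ := cech_iso I (ModuleCat.of A A) (T.toList.map (frobenius A p)) (fun x hx => by
      obtain ⟨f, hf, rfl⟩ := List.mem_map.1 hx
      rw [frobenius_def]
      exact Ideal.pow_mem_of_mem I (hmem f hf) p hp) (by
      conv_lhs => rw [← hI]
      refine Ideal.span_le.2 fun f hf => ⟨p, Ideal.subset_span ?_⟩
      exact List.mem_map.2 ⟨f, hf, frobenius_def p f⟩)
  exact ⟨(DRing.LBaseChange (frobenius A p)).mapIso e.symm ≪≫ b ≪≫ e'⟩

end Groth.Agent.RGamma27
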