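import Groth.Agent.Lib.RGamma27.Apps
import Mathlib.Algebra.Homology.HomotopyCategory.MappingCone

/-!
# The derived torsion functor as a right adjoint; composition
-/

set_option autoImplicit false
universe u

open CategoryTheory CategoryTheory.Limits CategoryTheory.Pretriangulated ZeroObject

attribute [local instance] HasDerivedCategory.standard

noncomputable section

namespace Groth.Agent.RGamma27

variable {A : Type u} [CommRing A] (I : Ideal A)

theorem isZero_Q_iff (K : DRing.Cx A) :
    IsZero (DerivedCategory.Q.obj K) ↔ ∀ j, Subsingleton (K.homology j) := by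
  constructor
  · intro h j
    obtain ⟨l⟩ := HD_iso (K := K) j
    haveI := ModuleCat.subsingleton_of_isZero ((DerivedCategory.homologyFunctor (ModuleCat.{u} A) j).map_isZero h)
    exact l.symm.toEquiv.subsingleton (β := ((DerivedCategory.homologyFunctor (ModuleCat.{u} A) j).obj (DerivedCategory.Q.obj K)))
  · intro h
    let t : DerivedCategory.Q.obj K ⟶ ((0 : Dual.D A)) := 0
    suffices IsIso t from IsZero.of_iso (isZero_zero _) (asIso t)
    rw [DerivedCategory.isIso_iff]
    intro q
    obtain ⟨l⟩ := HD_iso (K := K) q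
    haveI := h q
    have h0 : IsZero ((DerivedCategory.homologyFunctor (ModuleCat.{u} A) q).obj (DerivedCategory.Q.obj K)) :=
      (DMod.isZero_iff_subsingleton _).2 l.toEquiv.subsingleton
    exact ⟨0, by exact h0.eq_of_src _ _, by exact ((DerivedCategory.homologyFunctor (ModuleCat.{u} A) q).map_isZero (isZero_zero _)).eq_of_src _ _⟩

theorem flasque_prod {M N : Type u} [AddCommGroup M] [Module A M] [AddCommGroup N] [Module A N]
    (hM : Flasque (R := A) M) (hN : Flasque (R := A) N) : Flasque (R := A) (M × N) := fun fs g n x hx => by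
  obtain ⟨m₁, a, ha, e₁⟩ := hM fs g n x.1 (hx.map (LinearMap.fst A M N))
  obtain ⟨m₂, b, hb, e₂⟩ := hN fs g n x.2 (hx.map (LinearMap.snd A M N))
  refine ⟨m₁ + m₂, (a, b), fun f hf => ?_, Prod.ext ?_ ?_⟩
  · obtain ⟨p, hp⟩ := ha f hf
    obtain ⟨q, hq⟩ := hb f hf
    exact ⟨p + q, Prod.ext (by simp [pow_add, mul_smul, smul_comm (f ^ p), hp])
      (by simp [pow_add, mul_smul, hq])⟩
  · simp only [Prod.smul_fst, Prod.fst_sub, Prod.fst_zero]
    rw [pow_add, mul_smul, smul_comm, e₁, smul_zero]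
  · simp only [Prod.smul_snd, Prod.snd_sub, Prod.snd_zero]
    rw [pow_add, mul_smul, e₂, smul_zero]

theorem flasque_equiv {M N : Type u} [AddCommGroup M] [Module A M] [AddCommGroup N] [Module A N]
    (e : M ≃ₗ[A] N) (hM : Flasque (R := A) M) : Flasque (R := A) N := fun fs g n x hx => by
  obtain ⟨m, a, ha, e₁⟩ := hM fs g n (e.symm x) (hx.map e.symm.toLinearMap)
  exact ⟨m, e a, ha.map e.toLinearMap, by simpa using congrArg e e₁⟩

theorem isIso_Q_gam_map [IsNoetherianRing A] {P P' : DRing.Cx A} (f : P ⟶ P')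
    (hP : ∀ i, Flasque (R := A) (P.X i)) (hP' : ∀ i, Flasque (R := A) (P'.X i))
    (hf : IsIso (DerivedCategory.Q.map f)) :
    IsIso (DerivedCategory.Q.map (((DRing.gammaI I).mapHomologicalComplex (ComplexShape.up ℤ)).map f)) := by
  obtain ⟨g, h, hT⟩ := DMod.exists_cone_triangle f
  obtain ⟨g', h', hT'⟩ := DMod.exists_cone_triangle (((DRing.gammaI I).mapHomologicalComplex (ComplexShape.up ℤ)).map f)
  have h0 : IsZero (DerivedCategory.Q.obj (CochainComplex.mappingCone f)) :=
    (Triangle.isZero₃_iff_isIso₁ _ hT).2 hf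
  refine (Triangle.isZero₃_iff_isIso₁ _ hT').1 ?_
  refine IsZero.of_iso ?_ (DerivedCategory.Q.mapIso (CochainComplex.mappingCone.mapHomologicalComplexIso f (DRing.gammaI I)).symm)
  exact (isZero_Q_iff _).2 (acyclic_gam (IsNoetherian.noetherian I) _
    (fun i => flasque_equiv (DMod.coneXEquiv f i).symm (flasque_prod (hP (i + 1)) (hP' i))) ((isZero_Q_iff _).1 h0))

theorem flasque_torsion [IsNoetherianRing A] (I : Ideal A) {E : Type u} [AddCommGroup E] [Module A E]
    (hE : Module.Injective A E) : Flasque (R := A) (DRing.torsionSub I E) := by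
  have : InjHullLib.powTors I E = DRing.torsionSub I E := Submodule.ext fun x => InjHullLib.mem_powTors_iff
  exact this ▸ flasque_of_injective (InjHullLib.injective_powTors hE I)

theorem unitIso_natural [DRing.HasRgammaI I] {J J' : DRing.Cx A} [J.IsKInjective] [J'.IsKInjective] (v : J ⟶ J') :
    (unitIso I J).hom ≫ (DRing.RgammaI I).map (DerivedCategory.Q.map v) =
      DerivedCategory.Q.map (((DRing.gammaI I).mapHomologicalComplex (ComplexShape.up ℤ)).map v) ≫ (unitIso I J').hom := by
  let q := HomotopyCategory.quotient (ModuleCat.{u} A) (ComplexShape.up ℤ)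
  let e := DerivedCategory.quotientCompQhIso (ModuleCat.{u} A)
  let fac := (DRing.gammaI I).mapHomotopyCategoryFactors (ComplexShape.up ℤ)
  let η := (DRing.gammaIKh I).totalRightDerivedUnit DerivedCategory.Qh
      (HomotopyCategory.quasiIso (ModuleCat.{u} A) (ComplexShape.up ℤ))
  let τ : ((DRing.gammaI I).mapHomologicalComplex (ComplexShape.up ℤ)) ⋙ DerivedCategory.Q ⟶
      DerivedCategory.Q ⋙ DRing.RgammaI I :=
    Functor.whiskerLeft _ e.inv ≫ (Functor.associator _ _ _).inv ≫ Functor.whiskerRight fac.inv DerivedCategory.Qh ≫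
      (Functor.associator _ _ _).hom ≫ Functor.whiskerLeft q η ≫ (Functor.associator _ _ _).inv ≫
      Functor.whiskerRight e.hom (DRing.RgammaI I)
  have hτ : ∀ (K : DRing.Cx A) [K.IsKInjective], τ.app K = (unitIso I K).hom := fun K _ => by
    simp [τ, η, fac, q, e, unitIso]
  rw [← hτ, ← hτ]
  exact (τ.naturality v).symm

variable [IsNoetherianRing A] [DRing.HasRgammaI I]

theorem isIso_RgammaI_map_ε (K : Dual.D A) : IsIso ((DRing.RgammaI I).map ((DRing.RgammaIε I).app K)) := by
  obtain ⟨J, hJ, hinj, ⟨e⟩⟩ := exists_res K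
  suffices h : IsIso ((DRing.RgammaI I).map ((DRing.RgammaIε I).app (DerivedCategory.Q.obj J))) by
    have hn : (DRing.RgammaI I).map e.hom ≫ (DRing.RgammaIε I).app _ = (DRing.RgammaIε I).app K ≫ e.hom :=
      (DRing.RgammaIε I).naturality e.hom
    have : (DRing.RgammaIε I).app K = (DRing.RgammaI I).map e.hom ≫ (DRing.RgammaIε I).app (DerivedCategory.Q.obj J) ≫ e.inv := by
      rw [← Category.assoc, hn, Category.assoc, e.hom_inv_id]
      exact (Category.comp_id _).symm
    rw [this, Functor.map_comp, Functor.map_comp]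
    infer_instance
  have : (DRing.RgammaIε I).app (DerivedCategory.Q.obj J) = (unitIso I J).inv ≫ DerivedCategory.Q.map (incl I J) := by
    rw [← cancel_epi (unitIso I J).hom]
    exact (unitIso_ε I J).trans (Iso.hom_inv_id_assoc _ _).symm
  rw [this]
  erw [Functor.map_comp]
  suffices IsIso ((DRing.RgammaI I).map (DerivedCategory.Q.map (incl I J))) from inferInstance
  obtain ⟨W, w, hW, hw, -, hWinj⟩ := KInjLib.exists_resolution (gam I J)
  obtain ⟨v, hv⟩ := KInjLib.exists_map_eq (K := W) (I := J)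
    (inv (DerivedCategory.Q.map w) ≫ DerivedCategory.Q.map (incl I J))
  have hwv : DerivedCategory.Q.map (w ≫ v) = DerivedCategory.Q.map (incl I J) := by
    rw [Functor.map_comp, hv, IsIso.hom_inv_id_assoc]
  rw [← hwv, Functor.map_comp, Functor.map_comp]
  let G := (DRing.gammaI I).mapHomologicalComplex (ComplexShape.up ℤ)
  obtain ⟨H⟩ := (KInjLib.map_eq_iff (w ≫ v) (incl I J)).1 hwv
  have h1 : IsIso (G.map (incl I J)) := by
    haveI : ∀ i, IsIso ((G.map (incl I J)).f i) := fun i => by
      rw [ConcreteCategory.isIso_iff_bijective]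
      refine ⟨fun a b hab => Subtype.ext (Subtype.ext (congrArg Subtype.val hab)), fun y => ?_⟩
      exact ⟨(⟨⟨y.1, y.2⟩, y.2.imp fun n hn a ha => Subtype.ext (hn a ha)⟩ :
        DRing.torsionSub I (DRing.torsionSub I (J.X i))), rfl⟩
    exact HomologicalComplex.Hom.isIso_of_components _
  haveI := h1
  have h2 : DerivedCategory.Q.map (G.map w) ≫ DerivedCategory.Q.map (G.map v) = DerivedCategory.Q.map (G.map (incl I J)) := by
    rw [← Functor.map_comp, ← Functor.map_comp]
    have e := DerivedCategory.quotientCompQhIso (ModuleCat.{u} A)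
    rw [← cancel_epi (e.hom.app _), ← e.hom.naturality, ← e.hom.naturality]
    exact congrArg (fun t => DerivedCategory.Qh.map t ≫ _)
      (HomotopyCategory.eq_of_homotopy _ _ ((DRing.gammaI I).mapHomotopy H))
  haveI : IsIso (DerivedCategory.Q.map (G.map w)) := isIso_Q_gam_map I w
    (fun i => flasque_torsion I (hinj i))
    (fun i => flasque_of_injective ((Module.injective_iff_injective_object A _).2 (hWinj i))) inferInstance
  haveI : IsIso (DerivedCategory.Q.map (G.map v)) := by
    haveI : IsIso (DerivedCategory.Q.map (G.map w) ≫ DerivedCategory.Q.map (G.map v)) := h2 ▸ inferInstance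
    exact IsIso.of_isIso_comp_left (DerivedCategory.Q.map (G.map w)) _
  haveI := hW
  have h3 : (DRing.RgammaI I).map (DerivedCategory.Q.map v) =
      (unitIso I W).inv ≫ DerivedCategory.Q.map (G.map v) ≫ (unitIso I J).hom := by
    rw [← unitIso_natural, Iso.inv_hom_id_assoc]
  rw [h3]
  infer_instance

theorem map_eq_zero_of_zero {X Y : Dual.D A} : (DRing.RgammaI I).map (0 : X ⟶ Y) = 0 := by
  have hz : IsZero ((DRing.RgammaI I).obj (0 : Dual.D A)) := by
    haveI := isIso_ε_of_torsion I (0 : Dual.D A) fun i m => ⟨0, fun a _ =>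
      Subsingleton.elim (h := ModuleCat.subsingleton_of_isZero
        ((DerivedCategory.homologyFunctor (ModuleCat.{u} A) i).map_isZero (isZero_zero _))) _ _⟩
    exact IsZero.of_iso (isZero_zero _) (asIso ((DRing.RgammaIε I).app (0 : Dual.D A)))
  rw [show (0 : X ⟶ Y) = (0 : X ⟶ (0 : Dual.D A)) ≫ 0 from zero_comp.symm, Functor.map_comp,
    hz.eq_of_tgt ((DRing.RgammaI I).map (0 : X ⟶ (0 : Dual.D A))) 0, zero_comp]

theorem comp_ε_bijective (L K : Dual.D A) (hL : ∀ i : ℤ, LocCoh.IsPowerTorsion I (Dual.HD A L i)) :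
    Function.Bijective (fun g : L ⟶ (DRing.RgammaI I).obj K => g ≫ (DRing.RgammaIε I).app K) := by
  haveI := isIso_ε_of_torsion I L hL
  haveI := isIso_RgammaI_map_ε I K
  have hn : ∀ {X Y : Dual.D A} (f : X ⟶ Y),
      (DRing.RgammaI I).map f ≫ (DRing.RgammaIε I).app Y = (DRing.RgammaIε I).app X ≫ f :=
    fun f => (DRing.RgammaIε I).naturality f
  have key : ∀ g : L ⟶ (DRing.RgammaI I).obj K, g ≫ (DRing.RgammaIε I).app K = 0 → g = 0 := fun g hg => by
    have h1 : (DRing.RgammaI I).map g = 0 := by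
      rw [← cancel_mono ((DRing.RgammaI I).map ((DRing.RgammaIε I).app K)), ← Functor.map_comp, zero_comp, hg,
        map_eq_zero_of_zero]
    rw [← cancel_epi ((DRing.RgammaIε I).app L), ← hn g, h1, zero_comp, comp_zero]
  refine ⟨fun g g' h => sub_eq_zero.1 (key _ ?_), fun (f : L ⟶ K) => ⟨inv ((DRing.RgammaIε I).app L) ≫ (DRing.RgammaI I).map f, ?_⟩⟩
  · rw [Preadditive.sub_comp, sub_eq_zero]; exact h
  · show (_ ≫ _) ≫ _ = f
    rw [Category.assoc, hn f, IsIso.inv_hom_id_assoc]

/-- Cohomology is power torsion. -/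
abbrev TP : ObjectProperty (Dual.D A) := fun L => ∀ i : ℤ, LocCoh.IsPowerTorsion I (Dual.HD A L i)

/-- The hom equivalence of the adjunction. -/
def homEquiv' (L : (TP I).FullSubcategory) (K : Dual.D A) :
    ((TP I).ι.obj L ⟶ K) ≃ (L ⟶ ((TP I).lift (DRing.RgammaI I) fun K i => isPowerTorsion_RgammaI I K i).obj K) :=
  (Equiv.ofBijective _ (comp_ε_bijective I L.obj K L.property)).symm.trans
    { toFun := fun g => ObjectProperty.homMk g
      invFun := fun g => g.hom
      left_inv := fun g => rfl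
      right_inv := fun g => rfl }

theorem exists_adjunction : ∃ h : ∀ K : Dual.D A,
    (fun L : Dual.D A => ∀ i : ℤ, LocCoh.IsPowerTorsion I (Dual.HD A L i)) ((DRing.RgammaI I).obj K),
    Nonempty (ObjectProperty.ι (fun L : Dual.D A => ∀ i : ℤ, LocCoh.IsPowerTorsion I (Dual.HD A L i)) ⊣
      ObjectProperty.lift (fun L : Dual.D A => ∀ i : ℤ, LocCoh.IsPowerTorsion I (Dual.HD A L i)) (DRing.RgammaI I) h) := by
  refine ⟨fun K i => isPowerTorsion_RgammaI I K i, ⟨Adjunction.mkOfHomEquiv
    { homEquiv := homEquiv' I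
      homEquiv_naturality_left_symm := fun {L' L K} f g => ?_
      homEquiv_naturality_right := fun {L K K'} f g => ?_ }⟩⟩
  · show (f.hom ≫ g.hom) ≫ _ = f.hom ≫ g.hom ≫ _
    exact Category.assoc f.hom g.hom _
  · refine ObjectProperty.hom_ext _ ?_
    apply (comp_ε_bijective I L.obj K' L.property).1
    show (Equiv.ofBijective _ (comp_ε_bijective I L.obj K' L.property)).symm (f ≫ g) ≫ _ =
      ((Equiv.ofBijective _ (comp_ε_bijective I L.obj K L.property)).symm f ≫ (DRing.RgammaI I).map g) ≫ _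
    rw [Category.assoc, show (DRing.RgammaI I).map g ≫ (DRing.RgammaIε I).app K' = (DRing.RgammaIε I).app K ≫ g from
      (DRing.RgammaIε I).naturality g, ← Category.assoc]
    erw [Equiv.ofBijective_apply_symm_apply (fun t => t ≫ (DRing.RgammaIε I).app K') _ (f ≫ g),
      Equiv.ofBijective_apply_symm_apply (fun t => t ≫ (DRing.RgammaIε I).app K) _ f]

omit [DRing.HasRgammaI I] in
theorem sup_pow_mem {M : Type u} [AddCommGroup M] [Module A M] {J : Ideal A} (h : LocCoh.IsPowerTorsion I M)
    (h' : LocCoh.IsPowerTorsion J M) : LocCoh.IsPowerTorsion (I ⊔ J) M := fun m => by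
  obtain ⟨n, hn⟩ := h m
  obtain ⟨k, hk⟩ := h' m
  refine ⟨n + k, fun a ha => ?_⟩
  obtain ⟨x, hx, y, hy, rfl⟩ := Submodule.mem_sup.1 (Ideal.sup_pow_add_le_pow_sup_pow ha)
  rw [add_smul, hn x hx, hk y hy, add_zero]

omit [DRing.HasRgammaI I] [IsNoetherianRing A] in
theorem torsion_mono {J : Ideal A} (hIJ : I ≤ J) {M : Type u} [AddCommGroup M] [Module A M]
    (h : LocCoh.IsPowerTorsion J M) : LocCoh.IsPowerTorsion I M := fun m =>
  (h m).imp fun n hn a ha => hn a (Ideal.pow_right_mono hIJ n ha)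

theorem isPowerTorsion_RgammaI_of_torsion (J : Ideal A) [DRing.HasRgammaI J] (X : Dual.D A)
    (hX : ∀ i, LocCoh.IsPowerTorsion I (Dual.HD A X i)) (j : ℤ) :
    LocCoh.IsPowerTorsion I (Dual.HD A ((DRing.RgammaI J).obj X) j) := by
  obtain ⟨W, hW, hinj, ⟨e⟩⟩ := exists_res X
  refine isPowerTorsion_HD_iso I (unitIso J W ≪≫ (DRing.RgammaI J).mapIso e.symm) j ?_
  have hq : IsIso (DerivedCategory.Q.map (incl I W)) := by
    have := quasiIso_incl (IsNoetherian.noetherian I) W (fun i => flasque_of_injective (hinj i)) fun j => by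
      obtain ⟨l⟩ := HD_iso (K := W) j
      exact isPowerTorsion_of_equiv I l (isPowerTorsion_HD_iso I e j (hX j))
    exact Localization.inverts DerivedCategory.Q (HomologicalComplex.quasiIso (ModuleCat.{u} A) (ComplexShape.up ℤ)) _ this
  haveI := isIso_Q_gam_map J (incl I W) (fun i => flasque_torsion I (hinj i)) (fun i => flasque_of_injective (hinj i)) hq
  refine isPowerTorsion_HD_iso I (asIso (DerivedCategory.Q.map
    (((DRing.gammaI J).mapHomologicalComplex (ComplexShape.up ℤ)).map (incl I W)))) j ?_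
  obtain ⟨l⟩ := HD_iso (K := gam J (gam I W)) j
  refine isPowerTorsion_of_equiv I l.symm fun m => ?_
  obtain ⟨z, rfl⟩ := DMod.homologyπ_surjective (gam J (gam I W)) j m
  obtain ⟨n, hn⟩ := ((gam J (gam I W)).iCycles j z : DRing.torsionSub J (DRing.torsionSub I (W.X j))).1.2
  refine ⟨n, fun a ha => ?_⟩
  have h0 : a • z = 0 := DMod.iCycles_injective (gam J (gam I W)) j (by
    rw [map_smul, map_zero]; exact Subtype.ext (Subtype.ext (hn a ha)))
  rw [← map_smul, h0, map_zero]

theorem comp_iso (J : Ideal A) [DRing.HasRgammaI J] [DRing.HasRgammaI (I ⊔ J)] (K : Dual.D A) :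
    Nonempty ((DRing.RgammaI J).obj ((DRing.RgammaI I).obj K) ≅ (DRing.RgammaI (I ⊔ J)).obj K) := by
  let X := (DRing.RgammaI J).obj ((DRing.RgammaI I).obj K)
  let Y := (DRing.RgammaI (I ⊔ J)).obj K
  let εX : X ⟶ K := (DRing.RgammaIε J).app _ ≫ (DRing.RgammaIε I).app K
  let εY : Y ⟶ K := (DRing.RgammaIε (I ⊔ J)).app K
  have hX : ∀ i, LocCoh.IsPowerTorsion (I ⊔ J) (Dual.HD A X i) := fun i =>
    sup_pow_mem I (isPowerTorsion_RgammaI_of_torsion I J _ (isPowerTorsion_RgammaI I K) i)
      (isPowerTorsion_RgammaI J _ i)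
  have hY := isPowerTorsion_RgammaI (I ⊔ J) K
  have uX : ∀ L : Dual.D A, (∀ i, LocCoh.IsPowerTorsion (I ⊔ J) (Dual.HD A L i)) →
      Function.Bijective (fun g : L ⟶ X => g ≫ εX) := fun L hL => by
    have := (comp_ε_bijective I L K fun i => torsion_mono I le_sup_left (hL i)).comp
      (comp_ε_bijective J L ((DRing.RgammaI I).obj K) fun i => torsion_mono J le_sup_right (hL i))
    convert this using 1
    funext g
    exact (Category.assoc _ _ _).symm
  have uY := comp_ε_bijective (I ⊔ J)
  obtain ⟨a, ha⟩ := (uY X K hX).2 εX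
  obtain ⟨b, hb⟩ := (uX Y hY).2 εY
  simp only at ha hb
  refine ⟨⟨a, b, (uX X hX).1 ?_, (uY Y K hY).1 ?_⟩⟩
  · show (a ≫ b) ≫ εX = 𝟙 _ ≫ εX
    rw [Category.assoc, hb, Category.id_comp, ha]
  · show (b ≫ a) ≫ εY = 𝟙 _ ≫ εY
    rw [Category.assoc, ha, Category.id_comp, hb]

end Groth.Agent.RGamma27
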