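import Groth.Agent.Lib.RGamma27.Flasque
import Groth.Agent.Lib.KInj.DerivedAdj
import Groth.Agent.Lib.KInj.Resolution
import Groth.Agent.Lib.DMod.Basic
import Groth.Prelude.Def_DRing3
import Mathlib.Algebra.Category.ModuleCat.Injective
import Mathlib.CategoryTheory.Abelian.GrothendieckCategory.Basic

/-!
# The derived torsion functor on K-injective complexes
-/

set_option autoImplicit false
universe u

open CategoryTheory CategoryTheory.Limits

attribute [local instance] HasDerivedCategory.standard

noncomputable section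

namespace Groth.Agent.RGamma27

variable {A : Type u} [CommRing A] (I : Ideal A)

theorem enoughKInj : KInjLib.EnoughKInj (ModuleCat.{u} A) := KInjLib.enoughKInj_of_grothendieck

theorem hasRgammaI : DRing.HasRgammaI I := KInjLib.hasRightDerivedFunctor enoughKInj _

/-- A resolution by a K-injective complex with injective terms. -/
theorem exists_res (X : Dual.D A) : ∃ J : DRing.Cx A, J.IsKInjective ∧ (∀ i, Module.Injective A (J.X i)) ∧
    Nonempty (X ≅ DerivedCategory.Q.obj J) := by
  obtain ⟨J, f, hJ, hf, -, hinj⟩ := KInjLib.exists_resolution (DerivedCategory.Q.objPreimage X)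
  refine ⟨J, hJ, fun i => (Module.injective_iff_injective_object A _).2 (hinj i),
    ⟨(DerivedCategory.Q.objObjPreimageIso X).symm ≪≫ asIso (DerivedCategory.Q.map f)⟩⟩

variable [DRing.HasRgammaI I]

/-- The value on a K-injective complex. -/
def unitIso (J : DRing.Cx A) [J.IsKInjective] :
    DerivedCategory.Q.obj (gam I J) ≅ (DRing.RgammaI I).obj (DerivedCategory.Q.obj J) :=
  haveI := KInjLib.isIso_app_of_isKInjective enoughKInj
    ((DRing.gammaIKh I).totalRightDerivedUnit DerivedCategory.Qh
      (HomotopyCategory.quasiIso (ModuleCat.{u} A) (ComplexShape.up ℤ))) J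
  ((DerivedCategory.quotientCompQhIso (ModuleCat.{u} A)).app (gam I J)).symm ≪≫
    (DerivedCategory.Qh.mapIso (((DRing.gammaI I).mapHomotopyCategoryFactors (ComplexShape.up ℤ)).app J).symm) ≪≫
    asIso (((DRing.gammaIKh I).totalRightDerivedUnit DerivedCategory.Qh
      (HomotopyCategory.quasiIso (ModuleCat.{u} A) (ComplexShape.up ℤ))).app
        ((HomotopyCategory.quotient _ _).obj J)) ≪≫
    (DRing.RgammaI I).mapIso ((DerivedCategory.quotientCompQhIso (ModuleCat.{u} A)).app J)

theorem unitIso_ε (J : DRing.Cx A) [J.IsKInjective] :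
    (unitIso I J).hom ≫ (DRing.RgammaIε I).app (DerivedCategory.Q.obj J) = DerivedCategory.Q.map (incl I J) := by
  let q := HomotopyCategory.quotient (ModuleCat.{u} A) (ComplexShape.up ℤ)
  let e := DerivedCategory.quotientCompQhIso (ModuleCat.{u} A)
  have h1 := (DRing.RgammaI I).rightDerived_fac_app
    ((DRing.gammaIKh I).totalRightDerivedUnit DerivedCategory.Qh
      (HomotopyCategory.quasiIso (ModuleCat.{u} A) (ComplexShape.up ℤ)))
    (HomotopyCategory.quasiIso (ModuleCat.{u} A) (ComplexShape.up ℤ)) (𝟭 (Dual.D A))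
    (DRing.gammaIτ I ≫ (Functor.rightUnitor _).inv) (q.obj J)
  have h2 : (DRing.gammaIτ I ≫ (Functor.rightUnitor DerivedCategory.Qh).inv).app (q.obj J) =
      DerivedCategory.Qh.map ((((DRing.gammaI I).mapHomotopyCategoryFactors (ComplexShape.up ℤ)).hom.app J) ≫
        q.map (incl I J)) := by
    show (DRing.gammaIτ0 I).app J ≫ 𝟙 _ = _
    rw [Category.comp_id, Functor.map_comp]
    simp only [DRing.gammaIτ0, NatTrans.comp_app, Functor.associator_inv_app, Functor.associator_hom_app,
      Functor.whiskerRight_app, Functor.leftUnitor_hom_app, Category.id_comp]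
    have hid : (Functor.mapHomologicalComplexIdIso (ModuleCat.{u} A) (ComplexShape.up ℤ)).hom.app J = 𝟙 J := by
      ext i : 1; simp
    erw [hid, CategoryTheory.Functor.map_id, Category.comp_id]
    refine congrArg (fun t => _ ≫ t) ?_
    erw [CategoryTheory.Functor.map_id]
    exact Category.comp_id _
  have hn := (DRing.RgammaIε I).naturality (e.hom.app J)
  have hn' := e.hom.naturality (incl I J)
  show ((e.inv.app (gam I J) ≫ DerivedCategory.Qh.map (((DRing.gammaI I).mapHomotopyCategoryFactors (ComplexShape.up ℤ)).inv.app J) ≫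
    _ ≫ (DRing.RgammaI I).map (e.hom.app J))) ≫ _ = _
  simp only [Category.assoc]
  erw [hn]
  erw [reassoc_of% h1, reassoc_of% h2]
  erw [← Functor.map_comp_assoc]
  erw [Iso.inv_hom_id_app_assoc]
  exact (congrArg (fun t => e.inv.app (gam I J) ≫ t) hn').trans (e.inv_hom_id_app_assoc _ _)

theorem isIso_ε_iff (J : DRing.Cx A) [J.IsKInjective] :
    IsIso ((DRing.RgammaIε I).app (DerivedCategory.Q.obj J)) ↔ IsIso (DerivedCategory.Q.map (incl I J)) := by
  rw [← unitIso_ε]
  exact (isIso_comp_left_iff _ _).symm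

theorem isIso_ε_of_isIso_ε {X Y : Dual.D A} (e : X ≅ Y) (h : IsIso ((DRing.RgammaIε I).app Y)) :
    IsIso ((DRing.RgammaIε I).app X) := by
  have hn : (DRing.RgammaI I).map e.hom ≫ (DRing.RgammaIε I).app Y = (DRing.RgammaIε I).app X ≫ e.hom :=
    (DRing.RgammaIε I).naturality e.hom
  have : (DRing.RgammaIε I).app X = (DRing.RgammaI I).map e.hom ≫ (DRing.RgammaIε I).app Y ≫ e.inv := by
    rw [← Category.assoc, hn, Category.assoc, e.hom_inv_id]
    exact (Category.comp_id _).symm
  rw [this]
  infer_instance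

omit [DRing.HasRgammaI I] in
theorem HD_iso {K : DRing.Cx A} (j : ℤ) :
    Nonempty (Dual.HD A (DerivedCategory.Q.obj K) j ≃ₗ[A] K.homology j) :=
  ⟨((DerivedCategory.homologyFunctorFactors (ModuleCat.{u} A) j).app K).toLinearEquiv⟩

omit [DRing.HasRgammaI I] in
theorem isPowerTorsion_of_equiv {M N : Type u} [AddCommGroup M] [Module A M] [AddCommGroup N] [Module A N]
    (e : M ≃ₗ[A] N) (h : LocCoh.IsPowerTorsion I M) : LocCoh.IsPowerTorsion I N := fun n => by
  obtain ⟨k, hk⟩ := h (e.symm n)
  exact ⟨k, fun a ha => by simpa using congrArg e (hk a ha)⟩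

omit [DRing.HasRgammaI I] in
theorem isPowerTorsion_HD_iso {X Y : Dual.D A} (e : X ≅ Y) (j : ℤ) (h : LocCoh.IsPowerTorsion I (Dual.HD A X j)) :
    LocCoh.IsPowerTorsion I (Dual.HD A Y j) :=
  isPowerTorsion_of_equiv I ((DerivedCategory.homologyFunctor (ModuleCat.{u} A) j).mapIso e).toLinearEquiv h

theorem isIso_ε_of_torsion [IsNoetherianRing A] (K : Dual.D A)
    (hK : ∀ i : ℤ, LocCoh.IsPowerTorsion I (Dual.HD A K i)) : IsIso ((DRing.RgammaIε I).app K) := by
  obtain ⟨J, hJ, hinj, ⟨e⟩⟩ := exists_res K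
  refine isIso_ε_of_isIso_ε I e ((isIso_ε_iff I J).2 ?_)
  have := quasiIso_incl (IsNoetherian.noetherian I) J (fun i => flasque_of_injective (hinj i)) fun j => by
    obtain ⟨l⟩ := HD_iso (K := J) j
    exact isPowerTorsion_of_equiv I l (isPowerTorsion_HD_iso I e j (hK j))
  exact Localization.inverts DerivedCategory.Q (HomologicalComplex.quasiIso (ModuleCat.{u} A) (ComplexShape.up ℤ)) _ this

theorem isPowerTorsion_RgammaI (K : Dual.D A) (j : ℤ) :
    LocCoh.IsPowerTorsion I (Dual.HD A ((DRing.RgammaI I).obj K) j) := by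
  obtain ⟨J, hJ, -, ⟨e⟩⟩ := exists_res K
  refine isPowerTorsion_HD_iso I (unitIso I J ≪≫ (DRing.RgammaI I).mapIso e.symm) j ?_
  obtain ⟨l⟩ := HD_iso (K := gam I J) j
  exact isPowerTorsion_of_equiv I l.symm (isPowerTorsion_gam_homology I J j)

end Groth.Agent.RGamma27
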