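import Groth.Agent.Lib.RGamma27.Value

/-!
# Vanishing on complexes with a bijective element
-/

set_option autoImplicit false
universe u

open CategoryTheory CategoryTheory.Limits ZeroObject

attribute [local instance] HasDerivedCategory.standard

noncomputable section

namespace Groth.Agent.RGamma27

variable {A : Type u} [CommRing A] (I : Ideal A)

theorem smul_bijective_homology (K : DRing.Cx A) (f : A)
    (hK : ∀ n : ℤ, Function.Bijective (fun x : K.X n => f • x)) (j : ℤ) :
    Function.Bijective (fun x : K.homology j => f • x) := by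
  constructor
  · intro a b hab
    obtain ⟨z, rfl⟩ := DMod.homologyπ_surjective K j a
    obtain ⟨w, rfl⟩ := DMod.homologyπ_surjective K j b
    simp only at hab
    rw [← map_smul, ← map_smul, ← sub_eq_zero, ← map_sub, DMod.homologyπ_eq_zero_iff (K := K) (i := j - 1) (by simp)] at hab
    obtain ⟨y, hy⟩ := hab
    obtain ⟨y', rfl⟩ := (hK (j - 1)).2 y
    rw [← sub_eq_zero, ← map_sub, DMod.homologyπ_eq_zero_iff (K := K) (i := j - 1) (by simp)]
    refine ⟨y', (hK j).1 ?_⟩
    simp only at hy ⊢
    rw [← map_smul, hy, ← map_smul, smul_sub]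
  · intro a
    obtain ⟨z, rfl⟩ := DMod.homologyπ_surjective K j a
    obtain ⟨x, hx⟩ := (hK j).2 (K.iCycles j z)
    have hdx : K.d j (j + 1) x = 0 := (hK (j + 1)).1 (by
      show f • K.d j (j + 1) x = f • 0
      rw [← map_smul, show f • x = _ from hx, DMod.d_iCycles, smul_zero])
    obtain ⟨w, hw⟩ := DMod.exists_cycle (K := K) (j := j) (k := j + 1) (by simp) x hdx
    refine ⟨K.homologyπ j w, ?_⟩
    show f • K.homologyπ j w = _
    rw [← map_smul]
    exact congrArg (K.homologyπ j) (DMod.iCycles_injective K j (by rw [map_smul, hw]; exact hx))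

theorem isIso_Q_smul (J : DRing.Cx A) (c : A) (h : ∀ j, Function.Bijective (fun x : J.homology j => c • x)) :
    IsIso (DerivedCategory.Q.map (c • 𝟙 J)) := by
  have : _root_.QuasiIso (c • 𝟙 J) := by
    refine ⟨fun j => (quasiIsoAt_iff_isIso_homologyMap _ _).2 ?_⟩
    rw [ConcreteCategory.isIso_iff_bijective]
    convert h j using 1
    funext x
    obtain ⟨z, rfl⟩ := DMod.homologyπ_surjective J j x
    rw [DMod.homologyMap_π, ← map_smul]
    refine congrArg _ (DMod.iCycles_injective J j ?_)
    rw [DMod.iCycles_cyclesMap, map_smul]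
    rfl
  exact Localization.inverts DerivedCategory.Q (HomologicalComplex.quasiIso (ModuleCat.{u} A) (ComplexShape.up ℤ)) _ this

theorem acyclic_gam_of_smul_bijective (J : DRing.Cx A) [J.IsKInjective] (f : A) (hf : f ∈ I)
    (h : ∀ j, Function.Bijective (fun x : J.homology j => f • x)) (q : ℤ) : Subsingleton ((gam I J).homology q) := by
  rw [DMod.subsingleton_homology_iff (gam I J) (i := q - 1) (k := q + 1) (by simp) (by simp)]
  intro (x : DRing.torsionSub I (J.X q)) hx
  obtain ⟨n, hn⟩ := x.2
  have hdx : J.d q (q + 1) x.1 = 0 := congrArg Subtype.val hx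
  let l : (A ⧸ I ^ n) →ₗ[A] J.X q :=
    (I ^ n : Submodule A A).liftQ (LinearMap.toSpanSingleton A (J.X q) x.1) fun a ha => hn a ha
  let φ : (HomologicalComplex.single (ModuleCat.{u} A) (ComplexShape.up ℤ) q).obj (ModuleCat.of A (A ⧸ I ^ n)) ⟶ J :=
    HomologicalComplex.mkHomFromSingle (ModuleCat.ofHom l) fun k hk => by
      obtain rfl : q + 1 = k := hk
      refine ModuleCat.hom_ext (Submodule.linearMap_qext _ (LinearMap.ext_ring ?_))
      show J.d q (q + 1) ((1 : A) • x.1) = 0
      rw [one_smul, hdx]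
  have h0 : φ ≫ (f ^ n • 𝟙 J) = 0 := by
    refine HomologicalComplex.from_single_hom_ext ?_
    simp only [HomologicalComplex.comp_f, HomologicalComplex.zero_f, φ, HomologicalComplex.mkHomFromSingle_f,
      HomologicalComplex.smul_f_apply, HomologicalComplex.id_f, Category.assoc]
    rw [← cancel_epi (HomologicalComplex.singleObjXSelf (ComplexShape.up ℤ) q (ModuleCat.of A (A ⧸ I ^ n))).inv,
      Iso.inv_hom_id_assoc, comp_zero]
    refine ModuleCat.hom_ext (Submodule.linearMap_qext _ (LinearMap.ext_ring ?_))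
    show f ^ n • ((1 : A) • x.1) = 0
    rw [one_smul]
    exact hn _ (Ideal.pow_mem_pow hf n)
  have hb : ∀ j, Function.Bijective (fun x : J.homology j => f ^ n • x) := fun j => by
    have := (h j).iterate n
    rwa [smul_iterate] at this
  haveI := isIso_Q_smul J (f ^ n) hb
  have hφ : DerivedCategory.Q.map φ = DerivedCategory.Q.map 0 := by
    rw [← cancel_mono (DerivedCategory.Q.map (f ^ n • 𝟙 J)), ← Functor.map_comp, ← Functor.map_comp, h0, zero_comp]
  obtain ⟨H⟩ := (KInjLib.map_eq_iff φ 0).1 hφ
  have hc := H.comm q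
  rw [dNext_eq H.hom (show (ComplexShape.up ℤ).Rel q (q + 1) from rfl),
    prevD_eq H.hom (show (ComplexShape.up ℤ).Rel (q - 1) q from sub_add_cancel q 1),
    HomologicalComplex.single_obj_d, zero_comp, zero_add, HomologicalComplex.zero_f, add_zero] at hc
  let one' := (HomologicalComplex.singleObjXSelf (ComplexShape.up ℤ) q (ModuleCat.of A (A ⧸ I ^ n))).inv
    (Submodule.Quotient.mk (1 : A))
  let y := H.hom q (q - 1) one'
  have hy : y ∈ DRing.torsionSub I (J.X (q - 1)) := ⟨n, fun a ha => by
    have h1 : a • (Submodule.Quotient.mk (1 : A) : A ⧸ I ^ n) = 0 := by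
      rw [← Submodule.Quotient.mk_smul, smul_eq_mul, mul_one]; exact (Submodule.Quotient.mk_eq_zero _).2 ha
    show a • H.hom q (q - 1) one' = 0
    rw [← map_smul, ← map_smul, h1, map_zero, map_zero]⟩
  refine ⟨(⟨y, hy⟩ : DRing.torsionSub I (J.X (q - 1))), Subtype.ext ?_⟩
  have h2 := congrArg (fun t => t one') hc
  refine (Eq.trans ?_ h2.symm).trans ?_
  · rfl
  · simp only [φ, HomologicalComplex.mkHomFromSingle_f, one', ConcreteCategory.comp_apply]
    erw [Iso.inv_hom_id_apply]
    exact one_smul A x.1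

theorem isZero_RgammaI_of_smul_bijective [DRing.HasRgammaI I] (K : DRing.Cx A) (f : A) (hf : f ∈ I)
    (hK : ∀ n : ℤ, Function.Bijective (fun x : K.X n => f • x)) :
    IsZero ((DRing.RgammaI I).obj (DerivedCategory.Q.obj K)) := by
  obtain ⟨J, hJ, -, ⟨e⟩⟩ := exists_res (DerivedCategory.Q.obj K)
  refine IsZero.of_iso ?_ ((DRing.RgammaI I).mapIso e ≪≫ (unitIso I J).symm)
  let t : DerivedCategory.Q.obj (gam I J) ⟶ ((0 : Dual.D A)) := 0
  suffices IsIso t from IsZero.of_iso (isZero_zero _) (asIso t)
  rw [DerivedCategory.isIso_iff]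
  intro q
  suffices h : IsZero ((DerivedCategory.homologyFunctor (ModuleCat.{u} A) q).obj (DerivedCategory.Q.obj (gam I J))) from
    ⟨0, by exact h.eq_of_src _ _, by exact ((DerivedCategory.homologyFunctor (ModuleCat.{u} A) q).map_isZero (isZero_zero _)).eq_of_src _ _⟩
  obtain ⟨l⟩ := HD_iso (K := gam I J) q
  haveI := acyclic_gam_of_smul_bijective I J f hf (fun j => by
    let m := ((HD_iso (K := K) j).some.symm.trans ((DerivedCategory.homologyFunctor (ModuleCat.{u} A) j).mapIso e).toLinearEquiv).trans (HD_iso (K := J) j).some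
    have hm : (fun x : J.homology j => f • x) = m ∘ (fun x => f • x) ∘ m.symm := by funext x; simp
    rw [hm]
    exact m.bijective.comp ((smul_bijective_homology K f hK j).comp m.symm.bijective)) q
  exact (DMod.isZero_iff_subsingleton _).2 l.toEquiv.subsingleton

end Groth.Agent.RGamma27
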