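import Groth.Agent.Lib.ExtCech.Inj
import Groth.Agent.Lib.ExtCech.Main
import Groth.Agent.Lib.DMod.Homology
import Groth.Prelude.Def_Wider

/-!
# Torsion subcomplexes of complexes with divisible terms
-/

set_option autoImplicit false
universe u

open CategoryTheory CategoryTheory.Limits

noncomputable section

namespace Groth.Agent.RGamma27

variable {R : Type u} [CommRing R]

/-- Torsion for every member of the list. -/
def Tors (fs : List R) {M : Type u} [AddCommGroup M] [Module R M] (x : M) : Prop :=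
  ∀ g ∈ fs, ∃ n : ℕ, g ^ n • x = 0

section Tors

variable {fs : List R} {M N : Type u} [AddCommGroup M] [Module R M] [AddCommGroup N] [Module R N]

theorem tors_zero : Tors fs (0 : M) := fun _ _ => ⟨0, smul_zero _⟩

theorem Tors.sub {x y : M} (hx : Tors fs x) (hy : Tors fs y) : Tors fs (x - y) := fun g hg => by
  obtain ⟨n, hn⟩ := hx g hg
  obtain ⟨m, hm⟩ := hy g hg
  exact ⟨n + m, by rw [smul_sub, pow_add, mul_smul, mul_smul, hm, smul_zero, smul_comm, hn, smul_zero, sub_zero]⟩

theorem Tors.smul {x : M} (hx : Tors fs x) (a : R) : Tors fs (a • x) := fun g hg =>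
  (hx g hg).imp fun n hn => by rw [smul_comm, hn, smul_zero]

theorem Tors.map {x : M} (hx : Tors fs x) (f : M →ₗ[R] N) : Tors fs (f x) := fun g hg =>
  (hx g hg).imp fun n hn => by rw [← map_smul, hn, map_zero]

theorem tors_iff (fs : List R) {x : M} :
    Tors fs x ↔ x ∈ DRing.torsionSub (Ideal.span {y : R | y ∈ fs}) M :=
  (ExtCechLib.mem_torsionSub_span_iff (ModuleCat.of R M) fs x).symm

end Tors

/-- Torsion elements are divisible modulo torsion. -/
def Flasque (M : Type u) [AddCommGroup M] [Module R M] : Prop :=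
  ∀ (fs : List R) (g : R) (n : ℕ) (x : M), Tors fs x → ∃ (m : ℕ) (x' : M), Tors fs x' ∧ g ^ m • (x - g ^ n • x') = 0

theorem flasque_of_injective [IsNoetherianRing R] {M : Type u} [AddCommGroup M] [Module R M]
    (h : Module.Injective R M) : Flasque (R := R) M := fun fs g n x hx => by
  obtain ⟨m, x', hx', e⟩ := ExtCechLib.exists_div (ModuleCat.of R M) h _ g n x ((tors_iff fs).1 hx)
  exact ⟨m, x', (tors_iff fs).2 hx', e⟩

/-- All cohomology classes are torsion for the list. -/
def TorsClasses (fs : List R) (K : DRing.Cx R) : Prop :=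
  ∀ g ∈ fs, ∀ (i j k : ℤ), i + 1 = j → j + 1 = k → ∀ x : K.X j, K.d j k x = 0 → ∃ (n : ℕ) (z : K.X i),
    K.d i j z = g ^ n • x

theorem d_d (K : DRing.Cx R) (i j k : ℤ) (x : K.X i) : K.d j k (K.d i j x) = 0 :=
  congrArg (fun f : K.X i ⟶ K.X k => f x) (K.d_comp_d i j k)

theorem main : ∀ (fs : List R) (K : DRing.Cx R), (∀ i, Flasque (R := R) (K.X i)) → TorsClasses fs K →
    (∀ (i j k : ℤ), i + 1 = j → j + 1 = k → ∀ x : K.X j, K.d j k x = 0 → ∃ y : K.X i, Tors fs (x - K.d i j y)) ∧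
    (∀ (i j : ℤ), i + 1 = j → ∀ (x : K.X j) (y : K.X i), Tors fs x → K.d i j y = x →
      ∃ y' : K.X i, Tors fs y' ∧ K.d i j y' = x)
  | [], K, _, _ => ⟨fun i j k _ _ x _ => ⟨0, fun g hg => (List.not_mem_nil hg).elim⟩,
      fun i j _ x y _ h => ⟨y, fun g hg => (List.not_mem_nil hg).elim, h⟩⟩
  | g :: fs, K, hK, hH => by
    obtain ⟨hA, hB⟩ := main fs K hK fun f hf => hH f (List.mem_cons_of_mem g hf)
    refine ⟨fun i j k hij hjk x hx => ?_, fun i j hij x y hx hxy => ?_⟩
    · obtain ⟨y, hy⟩ := hA i j k hij hjk x hx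
      obtain ⟨n, z₀, hz₀⟩ := hH g List.mem_cons_self i j k hij hjk (x - K.d i j y)
        (by rw [map_sub, hx, d_d, sub_zero])
      obtain ⟨z, hz, hdz⟩ := hB i j hij _ z₀ (hy.smul (g ^ n)) hz₀
      obtain ⟨m, z', hz', e⟩ := hK i fs g n z hz
      refine ⟨y + z', fun f hf => ?_⟩
      rw [map_add, ← sub_sub]
      rcases List.mem_cons.1 hf with rfl | hf
      · refine ⟨m + n, ?_⟩
        have e' := congrArg (K.d i j) e
        rw [map_smul, map_sub, map_smul, map_zero, hdz, ← smul_sub] at e'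
        rw [pow_add, mul_smul]
        exact e'
      · exact hy.sub (hz'.map (K.d i j).hom) f hf
    · obtain ⟨y₁, hy₁, hdy₁⟩ := hB i j hij x y (fun f hf => hx f (List.mem_cons_of_mem g hf)) hxy
      obtain ⟨p, hp⟩ := hx g List.mem_cons_self
      obtain ⟨n, z₀, hz₀⟩ := hH g List.mem_cons_self (i - 1) i j (by omega) hij (g ^ p • y₁)
        (by rw [map_smul, hdy₁, hp])
      obtain ⟨z, hz, hdz⟩ := hB (i - 1) i (by omega) _ z₀ ((hy₁.smul _).smul (g ^ n)) hz₀
      obtain ⟨m, z', hz', e⟩ := hK (i - 1) fs g (n + p) z hz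
      refine ⟨y₁ - K.d (i - 1) i z', fun f hf => ?_, by rw [map_sub, d_d, sub_zero, hdy₁]⟩
      rcases List.mem_cons.1 hf with rfl | hf
      · refine ⟨m + (n + p), ?_⟩
        have e' := congrArg (K.d (i - 1) i) e
        rw [map_smul, map_sub, map_smul, map_zero, hdz, ← mul_smul, ← pow_add, ← smul_sub] at e'
        rw [pow_add, mul_smul]
        exact e'
      · exact hy₁.sub (hz'.map (K.d (i - 1) i).hom) f hf

/-- The torsion subcomplex. -/
abbrev gam (I : Ideal R) (K : DRing.Cx R) : DRing.Cx R :=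
  ((DRing.gammaI I).mapHomologicalComplex (ComplexShape.up ℤ)).obj K

/-- The inclusion of the torsion subcomplex. -/
abbrev incl (I : Ideal R) (K : DRing.Cx R) : gam I K ⟶ K :=
  (NatTrans.mapHomologicalComplex (DRing.gammaIι I) (ComplexShape.up ℤ)).app K

theorem torsClasses_of_isPowerTorsion {I : Ideal R} (fs : List R) (hfs : ∀ f ∈ fs, f ∈ I) (K : DRing.Cx R)
    (h : ∀ j, LocCoh.IsPowerTorsion I (K.homology j)) : TorsClasses fs K := by
  intro g hg i j k hij hjk x hx
  obtain ⟨z, rfl⟩ := DMod.exists_cycle (K := K) (j := j) (k := k) (by simp [← hjk]) x hx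
  obtain ⟨n, hn⟩ := h j (K.homologyπ j z)
  have h0 := hn (g ^ n) (Ideal.pow_mem_pow (hfs g hg) n)
  rw [← map_smul, DMod.homologyπ_eq_zero_iff (K := K) (i := i) (by simp [← hij])] at h0
  obtain ⟨w, hw⟩ := h0
  exact ⟨n, w, hw.trans (map_smul _ _ _)⟩

theorem quasiIso_incl {I : Ideal R} (hI : I.FG) (K : DRing.Cx R) (hK : ∀ i, Flasque (R := R) (K.X i))
    (h : ∀ j, LocCoh.IsPowerTorsion I (K.homology j)) : _root_.QuasiIso (incl I K) := by
  obtain ⟨S, hS⟩ := hI
  have hI' : Ideal.span {x : R | x ∈ S.toList} = I := by rw [← hS]; congr 1; ext; simp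
  have hmem : ∀ {M : Type u} [AddCommGroup M] [Module R M] {x : M},
      x ∈ DRing.torsionSub I M ↔ Tors S.toList x := fun {M} _ _ {x} => by rw [← hI']; exact (tors_iff _).symm
  obtain ⟨hA, hB⟩ := main S.toList K hK (torsClasses_of_isPowerTorsion S.toList
    (fun f hf => hI' ▸ Ideal.subset_span hf) K h)
  refine ⟨fun j => (quasiIsoAt_iff_isIso_homologyMap _ _).2 ?_⟩
  rw [ConcreteCategory.isIso_iff_bijective]
  refine DMod.homologyMap_bijective_of _ (i := j - 1) (k := j + 1) (by simp) (by simp) (fun x hx => ?_)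
    fun w y hw hy => ?_
  · change K.X j at x
    change K.d j (j + 1) x = 0 at hx
    obtain ⟨y, hy⟩ := hA (j - 1) j (j + 1) (by omega) rfl x hx
    refine ⟨(⟨x - K.d (j - 1) j y, hmem.2 hy⟩ : DRing.torsionSub I (K.X j)), y, ?_, sub_add_cancel _ _⟩
    refine Subtype.ext ?_
    show K.d j (j + 1) (x - K.d (j - 1) j y) = 0
    rw [map_sub, hx, d_d, sub_zero]
  · obtain ⟨y', hy', hdy'⟩ := hB (j - 1) j (by omega) w.1 y (hmem.1 w.2) hy
    exact ⟨(⟨y', hmem.2 hy'⟩ : DRing.torsionSub I (K.X (j - 1))), Subtype.ext hdy'⟩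

theorem acyclic_gam {I : Ideal R} (hI : I.FG) (K : DRing.Cx R) (hK : ∀ i, Flasque (R := R) (K.X i))
    (h : ∀ j, Subsingleton (K.homology j)) (j : ℤ) : Subsingleton ((gam I K).homology j) := by
  haveI := quasiIso_incl hI K hK fun j m => ⟨0, fun a _ => Subsingleton.elim (h := h j) _ _⟩
  exact ((asIso (HomologicalComplex.homologyMap (incl I K) j)).toLinearEquiv.toEquiv).subsingleton (β := K.homology j)

theorem isPowerTorsion_gam_homology (I : Ideal R) (K : DRing.Cx R) (j : ℤ) :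
    LocCoh.IsPowerTorsion I ((gam I K).homology j) := by
  intro m
  obtain ⟨z, rfl⟩ := DMod.homologyπ_surjective (gam I K) j m
  obtain ⟨n, hn⟩ := ((gam I K).iCycles j z : DRing.torsionSub I (K.X j)).2
  refine ⟨n, fun a ha => ?_⟩
  have h0 : a • z = 0 := DMod.iCycles_injective (gam I K) j (by rw [map_smul, map_zero]; exact Subtype.ext (hn a ha))
  rw [← map_smul, h0, map_zero]

end Groth.Agent.RGamma27
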