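import Groth.Agent.Lib.DCpl.TensorQuot
import Groth.Agent.Lib.DCpl.Nakayama
import Groth.Agent.Lib.DBaseChange.Adj
import Mathlib.Algebra.Module.CharacterModule
import Mathlib.Algebra.Homology.DerivedCategory.Fractions

/-!
# Derived tensor products with modules killed by a power of an ideal
-/

set_option autoImplicit false
universe u

open CategoryTheory CategoryTheory.Limits MonoidalCategory TensorProduct

attribute [local instance] HasDerivedCategory.standard

noncomputable section

namespace Groth.Agent.RGamma27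

variable {R : Type u} [CommRing R]

theorem exists_qis_homotopy {P L : DRing.Cx R} (g : P ⟶ L) (hg : DerivedCategory.Q.map g = 0) :
    ∃ (P' : DRing.Cx R) (s : P' ⟶ P), QuasiIso s ∧ DBaseChange.Adapted P' ∧ Nonempty (Homotopy (s ≫ g) 0) := by
  let q := HomotopyCategory.quotient (ModuleCat.{u} R) (ComplexShape.up ℤ)
  have h1 : DerivedCategory.Qh.map (q.map g) = DerivedCategory.Qh.map (0 : q.obj P ⟶ q.obj L) := by
    rw [Functor.map_zero]
    have hn := (DerivedCategory.quotientCompQhIso (ModuleCat.{u} R)).hom.naturality g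
    rw [hg, comp_zero] at hn
    exact zero_of_comp_mono ((DerivedCategory.quotientCompQhIso (ModuleCat.{u} R)).hom.app L) hn
  obtain ⟨Z, s, hs, hsg⟩ := (MorphismProperty.map_eq_iff_precomp DerivedCategory.Qh
    (HomotopyCategory.quasiIso (ModuleCat.{u} R) (ComplexShape.up ℤ)) _ _).1 h1
  obtain ⟨Z, rfl⟩ := HomotopyCategory.quotient_obj_surjective Z
  obtain ⟨s, rfl⟩ := q.map_surjective s
  have hs' : QuasiIso s := (HomotopyCategory.quotient_map_mem_quasiIso_iff s).1 hs
  have : QuasiIso ((KFlat.DT.aug R).app Z) := KFlat.DT.qis_aug Z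
  refine ⟨(KFlat.DT.res R).obj Z, (KFlat.DT.aug R).app Z ≫ s, inferInstance, DBaseChange.adapted_res Z,
    ⟨HomotopyCategory.homotopyOfEq _ _ ?_⟩⟩
  rw [comp_zero] at hsg
  show q.map _ = q.map 0
  erw [q.map_comp, q.map_comp, Category.assoc, hsg, comp_zero, Functor.map_zero]

theorem tm_f_eq_rTensor {M : ModuleCat.{u} R} {P Q : DRing.Cx R} (f : P ⟶ Q) (i : ℤ) (z : P.X i ⊗[R] M) :
    (((DBaseChange.tm M).map f).f i) z = (f.f i).hom.rTensor M z := rfl

theorem subsingleton_tm_homology (N : ModuleCat.{u} R) (P : DRing.Cx R) (hP : DBaseChange.Adapted P) (i : ℤ)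
    (hN : Subsingleton (DRing.toD P ⟶ (DMod.single i).obj (ModuleCat.of R (CharacterModule N)))) :
    Subsingleton (((DBaseChange.tm N).obj P).homology i) := by
  let T := (DBaseChange.tm N).obj P
  rw [DMod.subsingleton_homology_iff T (i := i - 1) (k := i + 1) (by simp) (by simp)]
  intro z hz
  by_contra hne
  let V := LinearMap.range (T.d (i - 1) i).hom
  have hz0 : V.mkQ z ≠ 0 := fun h => hne ((Submodule.Quotient.mk_eq_zero V).1 h)
  obtain ⟨c, hc⟩ := CharacterModule.exists_character_apply_ne_zero_of_ne_zero hz0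
  let χ : CharacterModule (P.X i ⊗[R] N) := c.comp V.mkQ.toAddMonoidHom
  let ψ : P.X i →ₗ[R] CharacterModule N := CharacterModule.homEquiv.symm χ
  have hψ : P.d (i - 1) i ≫ ModuleCat.ofHom ψ = 0 := by
    ext x : 2
    refine DFunLike.ext _ _ fun n => ?_
    show c (V.mkQ ((P.d (i - 1) i).hom.rTensor N (x ⊗ₜ n))) = 0
    rw [show V.mkQ ((P.d (i - 1) i).hom.rTensor N (x ⊗ₜ n)) = 0 from
      (Submodule.Quotient.mk_eq_zero V).2 ⟨x ⊗ₜ n, rfl⟩, map_zero]
  let M := ModuleCat.of R (CharacterModule N)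
  let g : P ⟶ (HomologicalComplex.single (ModuleCat.{u} R) (ComplexShape.up ℤ) i).obj M :=
    HomologicalComplex.mkHomToSingle (ModuleCat.ofHom ψ) fun j hj => by
      obtain rfl : j = i - 1 := by simp at hj; omega
      exact hψ
  have hg : DerivedCategory.Q.map g = 0 := by
    exact @Subsingleton.elim _ hN _ _
  obtain ⟨P', s, hs, hP', ⟨H⟩⟩ := exists_qis_homotopy g hg
  have := DBaseChange.quasiIso_tm N s hP' hP
  let T' := (DBaseChange.tm N).obj P'
  let t := (DBaseChange.tm N).map s
  obtain ⟨z', hz', w, hw⟩ : ∃ z' : T'.X i, T'.d i (i + 1) z' = 0 ∧ ∃ w : T.X (i - 1), z - t.f i z' = T.d (i - 1) i w := by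
    obtain ⟨y, hy⟩ := DMod.exists_cycle (K := T) (j := i) (k := i + 1) (by simp) z hz
    have hiso : IsIso (HomologicalComplex.homologyMap t i) :=
      (quasiIsoAt_iff_isIso_homologyMap _ _).1 (this.quasiIsoAt i)
    obtain ⟨m, hm⟩ := ((ConcreteCategory.isIso_iff_bijective (HomologicalComplex.homologyMap t i)).1 hiso).2
      (T.homologyπ i y)
    obtain ⟨y', rfl⟩ := DMod.homologyπ_surjective T' i m
    rw [DMod.homologyMap_π] at hm
    have h0 : T.homologyπ i (y - HomologicalComplex.cyclesMap t i y') = 0 := by rw [map_sub, hm, sub_self]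
    obtain ⟨w, hw⟩ := (DMod.homologyπ_eq_zero_iff (K := T) (j := i) (i := i - 1) (by simp) _).1 h0
    refine ⟨T'.iCycles i y', DMod.d_iCycles i (i + 1) y', w, ?_⟩
    rw [hw, map_sub, DMod.iCycles_cyclesMap, hy]
  have key : c (V.mkQ (t.f i z')) = 0 := by
    let h : P'.X (i + 1) →ₗ[R] CharacterModule N :=
      (H.hom (i + 1) i ≫ (HomologicalComplex.singleObjXSelf (ComplexShape.up ℤ) i M).hom).hom
    have hsψ : ψ ∘ₗ (s.f i).hom = h ∘ₗ (P'.d i (i + 1)).hom := by
      have hcomm := H.comm i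
      rw [dNext_eq H.hom (show (ComplexShape.up ℤ).Rel i (i + 1) by simp),
        prevD_eq H.hom (show (ComplexShape.up ℤ).Rel (i - 1) i by simp),
        HomologicalComplex.single_obj_d, comp_zero, add_zero, HomologicalComplex.zero_f, add_zero,
        HomologicalComplex.comp_f, HomologicalComplex.mkHomToSingle_f] at hcomm
      have h2 := congrArg (fun e => e ≫ (HomologicalComplex.singleObjXSelf (ComplexShape.up ℤ) i M).hom) hcomm
      simp only [Category.assoc, Iso.inv_hom_id, Category.comp_id] at h2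
      exact congrArg ModuleCat.Hom.hom h2
    show χ ((s.f i).hom.rTensor N z') = 0
    have e : χ = CharacterModule.homEquiv ψ := (CharacterModule.homEquiv.apply_symm_apply χ).symm
    have hz'' : (P'.d i (i + 1)).hom.rTensor N z' = 0 := hz'
    have gen : ∀ (u : P'.X i ⊗[R] N), CharacterModule.homEquiv ψ ((s.f i).hom.rTensor N u) =
        CharacterModule.homEquiv h ((P'.d i (i + 1)).hom.rTensor N u) := fun u => by
      induction u with
      | zero => simp only [map_zero]
      | tmul p n => exact DFunLike.congr_fun (LinearMap.congr_fun hsψ p) n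
      | add a b ha hb => simp only [map_add, ha, hb]
    rw [e, gen, hz'', map_zero]
  apply hc
  have : V.mkQ z = V.mkQ (t.f i z') := by
    rw [← sub_eq_zero, ← map_sub, hw]
    exact (Submodule.Quotient.mk_eq_zero V).2 ⟨w, rfl⟩
  rw [this]
  exact key

theorem subsingleton_HD_lTensor (I : Ideal R) [DRing.HasLTensor R (ModuleCat.of R (R ⧸ I))] (K : Dual.D R)
    (hK : ∀ i : ℤ, 0 < i → Subsingleton (Dual.HD R ((DRing.LTensor R (ModuleCat.of R (R ⧸ I))).obj K) i))
    (N : ModuleCat.{u} R) (n : ℕ) (hN : I ^ n • (⊤ : Submodule R N) = ⊥)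
    [DRing.HasLTensor R N] (i : ℤ) (hi : 0 < i) :
    Subsingleton (Dual.HD R ((DRing.LTensor R N).obj K) i) := by
  have hM : I ^ n • (⊤ : Submodule R (CharacterModule N)) = ⊥ := by
    refine eq_bot_iff.2 (Submodule.smul_le.2 fun a ha c _ => (Submodule.mem_bot R).2 ?_)
    refine DFunLike.ext _ _ fun x => ?_
    show c (a • x) = 0
    have hax : a • x ∈ (⊥ : Submodule R N) := hN ▸ Submodule.smul_mem_smul ha Submodule.mem_top
    rw [(Submodule.mem_bot R).1 hax, map_zero]
  have hv : Subsingleton (K ⟶ (DMod.single i).obj (ModuleCat.of R (CharacterModule N))) :=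
    DCpl.subsingleton_hom_of_killed I K i
      (fun N' => DCpl.subsingleton_hom_restrict I K 0 ((DMod.isLE_iff _ 0).2 hK) N' i hi) n _ hM
  haveI : (DerivedCategory.Q : DRing.Cx R ⥤ Dual.D R).EssSurj :=
    Localization.essSurj _ (HomologicalComplex.quasiIso (ModuleCat.{u} R) (ComplexShape.up ℤ))
  let G := (DerivedCategory.Q : DRing.Cx R ⥤ Dual.D R).objPreimage K
  let P := (KFlat.DT.res R).obj G
  have : QuasiIso ((KFlat.DT.aug R).app G) := KFlat.DT.qis_aug G
  let eK : DRing.toD P ≅ K := asIso (DerivedCategory.Q.map ((KFlat.DT.aug R).app G)) ≪≫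
    (DerivedCategory.Q : DRing.Cx R ⥤ Dual.D R).objObjPreimageIso K
  obtain ⟨t⟩ := DBaseChange.nonempty_lTensor_iso N P (DBaseChange.adapted_res G)
  have h0 := subsingleton_tm_homology N P (DBaseChange.adapted_res G) i
    (@Equiv.subsingleton _ _ (Iso.homCongr eK (Iso.refl _)) hv)
  have h1 := (DMod.subsingleton_HD_toD_iff _ i).2 h0
  exact @Equiv.subsingleton _ _
    ((DMod.HH i).mapIso ((DRing.LTensor R N).mapIso eK.symm ≪≫ t)).toLinearEquiv.toEquiv h1

end Groth.Agent.RGamma27
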