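import Groth.Agent.Lib.RGamma27.Adj
import Groth.Agent.Lib.RGamma27.ExtColim
import Groth.Prelude.Def_DDual2
import Mathlib.Algebra.Category.ModuleCat.ChangeOfRings

/-!
# The torsion functor and restriction of scalars
-/

set_option autoImplicit false
universe u

open CategoryTheory CategoryTheory.Limits

attribute [local instance] HasDerivedCategory.standard

noncomputable section

namespace Groth.Agent.RGamma27

variable {A B : Type u} [CommRing A] [CommRing B]

theorem flasque_restrict (φ : A →+* B) {M : ModuleCat.{u} B} (h : Flasque (R := B) M) :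
    Flasque (R := A) ((ModuleCat.restrictScalars φ).obj M) := by
  intro fs g n x hx
  have hs : ∀ (a : A) (k : ℕ) (y : (ModuleCat.restrictScalars φ).obj M),
      a ^ k • y = ((φ a) ^ k • (y : M) : M) := fun a k y => by
    rw [← map_pow]; rfl
  obtain ⟨m, x', hx', e⟩ := h (fs.map φ) (φ g) n (x : M) fun b hb => by
    obtain ⟨a, ha, rfl⟩ := List.mem_map.1 hb
    obtain ⟨k, hk⟩ := hx a ha
    exact ⟨k, (hs a k x).symm.trans hk⟩
  refine ⟨m, x', fun a ha => ?_, ?_⟩
  · obtain ⟨k, hk⟩ := hx' (φ a) (List.mem_map_of_mem ha)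
    exact ⟨k, (hs a k x').trans hk⟩
  · exact (hs g m _).trans ((congrArg (fun t : M => (φ g) ^ m • ((show M from x) - t)) (hs g n x')).trans e)

theorem mem_torsionSub_restrict (φ : A →+* B) (I : Ideal A) {M : ModuleCat.{u} B} (x : M) :
    (x : (ModuleCat.restrictScalars φ).obj M) ∈ DRing.torsionSub I ((ModuleCat.restrictScalars φ).obj M) ↔
      x ∈ DRing.torsionSub (I.map φ) M := by
  constructor
  · rintro ⟨n, hn⟩
    refine ⟨n, fun b hb => ?_⟩
    rw [← Ideal.map_pow] at hb
    have hle : (I ^ n).map φ ≤ LinearMap.ker (LinearMap.toSpanSingleton B M x) :=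
      Ideal.map_le_iff_le_comap.2 fun a ha => hn a ha
    exact hle hb
  · rintro ⟨n, hn⟩
    exact ⟨n, fun a ha => hn (φ a) (Ideal.map_pow φ I n ▸ Ideal.mem_map_of_mem φ ha)⟩

/-- Torsion commutes with restriction of scalars. -/
def torsionRestrictIso (φ : A →+* B) (I : Ideal A) (M : ModuleCat.{u} B) :
    (DRing.gammaI I).obj ((ModuleCat.restrictScalars φ).obj M) ≅
      (ModuleCat.restrictScalars φ).obj ((DRing.gammaI (I.map φ)).obj M) :=
  let e : DRing.torsionSub I ((ModuleCat.restrictScalars φ).obj M) ≃ₗ[A]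
      (ModuleCat.restrictScalars φ).obj (ModuleCat.of B (DRing.torsionSub (I.map φ) M)) :=
    { toFun := fun x => (⟨x.1, (mem_torsionSub_restrict φ I (M := M) x.1).1 x.2⟩ : DRing.torsionSub (I.map φ) M)
      invFun := fun y => ⟨(y : DRing.torsionSub (I.map φ) M).1,
        (mem_torsionSub_restrict φ I (M := M) _).2 (y : DRing.torsionSub (I.map φ) M).2⟩
      left_inv := fun _ => rfl
      right_inv := fun _ => rfl
      map_add' := fun _ _ => rfl
      map_smul' := fun _ _ => rfl }
  e.toModuleIso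

theorem HD_equiv_of_iso {X Y : Dual.D A} (e : X ≅ Y) (i : ℤ) :
    Nonempty (Dual.HD A X i ≃ₗ[A] Dual.HD A Y i) :=
  ⟨((DerivedCategory.homologyFunctor (ModuleCat.{u} A) i).mapIso e).toLinearEquiv⟩

variable [Algebra A B] [IsNoetherianRing A] [IsNoetherianRing B]

theorem exists_HD_restrict (I : Ideal A) [DRing.HasRgammaI I] [DRing.HasRgammaI (I.map (algebraMap A B))]
    (K : Dual.D B) (i : ℤ) :
    Nonempty (Dual.HD A ((DRing.RgammaI I).obj ((DRing.restrictD (algebraMap A B)).obj K)) i ≃ₗ[A]
      (ModuleCat.restrictScalars (algebraMap A B)).obj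
        ((DerivedCategory.homologyFunctor (ModuleCat.{u} B) i).obj ((DRing.RgammaI (I.map (algebraMap A B))).obj K))) := by
  let φ := algebraMap A B
  let F := ModuleCat.restrictScalars.{u} φ
  let F' := F.mapHomologicalComplex (ComplexShape.up ℤ)
  obtain ⟨J, hJ, hinj, ⟨e⟩⟩ := exists_res K
  obtain ⟨W, w, hW, hw, -, hWinj⟩ := KInjLib.exists_resolution (F'.obj J)
  haveI := isIso_Q_gam_map I w (fun j => flasque_restrict φ (flasque_of_injective (hinj j)))
    (fun j => flasque_of_injective ((Module.injective_iff_injective_object A _).2 (hWinj j))) inferInstance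
  haveI := hW
  let c : gam I (F'.obj J) ≅ F'.obj (gam (I.map φ) J) :=
    HomologicalComplex.Hom.isoOfComponents (fun j => torsionRestrictIso φ I (J.X j)) fun j k _ =>
      ModuleCat.hom_ext (LinearMap.ext fun x => rfl)
  let e₁ : (DRing.restrictD φ).obj K ≅ DerivedCategory.Q.obj W :=
    (DRing.restrictD φ).mapIso e ≪≫ F.mapDerivedCategoryFactors.app J ≪≫ asIso (DerivedCategory.Q.map w)
  let e₂ : (DRing.RgammaI I).obj ((DRing.restrictD φ).obj K) ≅ DerivedCategory.Q.obj (F'.obj (gam (I.map φ) J)) :=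
    (DRing.RgammaI I).mapIso e₁ ≪≫ (unitIso I W).symm ≪≫
      (asIso (DerivedCategory.Q.map (((DRing.gammaI I).mapHomologicalComplex (ComplexShape.up ℤ)).map w))).symm ≪≫
      DerivedCategory.Q.mapIso c
  exact ⟨((DerivedCategory.homologyFunctor (ModuleCat.{u} A) i).mapIso e₂ ≪≫
      (DerivedCategory.homologyFunctorFactors (ModuleCat.{u} A) i).app _ ≪≫
      ((gam (I.map φ) J).sc i).mapHomologyIso F ≪≫
      F.mapIso (((DerivedCategory.homologyFunctorFactors (ModuleCat.{u} B) i).app (gam (I.map φ) J)).symm ≪≫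
        (DerivedCategory.homologyFunctor (ModuleCat.{u} B) i).mapIso
          (unitIso (I.map φ) J ≪≫ (DRing.RgammaI (I.map φ)).mapIso e.symm))).toLinearEquiv⟩

theorem HDI_restrict (I : Ideal A) (K : Dual.D B) (i : ℤ) :
    Nonempty (Dual2.HDI A I ((DRing.restrictD (algebraMap A B)).obj K) i ≅
      (ModuleCat.restrictScalars (algebraMap A B)).obj (Dual2.HDI B (I.map (algebraMap A B)) K i)) := by
  haveI := hasRgammaI I
  haveI := hasRgammaI (I.map (algebraMap A B))
  obtain ⟨t⟩ := exists_HD_restrict I K i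
  obtain ⟨lA⟩ := HD_RgammaI_equiv I ((DRing.restrictD (algebraMap A B)).obj K) i
  obtain ⟨lB⟩ := HD_RgammaI_equiv (I.map (algebraMap A B)) K i
  let t' : (ModuleCat.restrictScalars.{u} (algebraMap A B)).obj
      ((DerivedCategory.homologyFunctor (ModuleCat.{u} B) i).obj ((DRing.RgammaI (I.map (algebraMap A B))).obj K)) ≃ₗ[A]
      (ModuleCat.restrictScalars.{u + 1} (algebraMap A B)).obj (Dual2.HDI B (I.map (algebraMap A B)) K i) :=
    { toFun := fun x => lB x
      invFun := fun y => lB.symm y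
      left_inv := fun x => lB.symm_apply_apply x
      right_inv := fun y => lB.apply_symm_apply y
      map_add' := fun x y => lB.map_add x y
      map_smul' := fun a x => lB.map_smul (algebraMap A B a) x }
  exact ⟨(lA.symm ≪≫ₗ t ≪≫ₗ t').toModuleIso⟩

end Groth.Agent.RGamma27
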